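import Cfsg.Agent.Lib.Cores.Subnormal

/-!
# A criterion for a unique maximal overgroup

* `le_normalizer_of_minimal` : a minimal normal subgroup normalises every subnormal subgroup.
* `unique_maximal` : if `A ≤ M`, `M` maximal, the normal closure of `A` is the whole group and `A` is
  subnormal in every proper overgroup not inside `M`, then `M` is the only maximal subgroup above `A`.
-/

set_option autoImplicit false
set_option linter.unusedSectionVars false

open scoped Pointwise

namespace Cfsg.Agent.Lib.Subnormality.UniqueMaximal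

universe u

variable {G : Type u} [Group G] [Finite G]

theorem mem_conj_smul {H : Subgroup G} {g x : G} :
    x ∈ MulAut.conj g • H ↔ g⁻¹ * x * g ∈ H := by
  rw [Subgroup.mem_pointwise_smul_iff_inv_smul_mem, ← map_inv]
  simp [MulAut.smul_def]

theorem exists_minimal_normal [Nontrivial G] : ∃ V : Subgroup G, V.Normal ∧ V ≠ ⊥ ∧
    ∀ W : Subgroup G, W.Normal → W ≤ V → W ≠ ⊥ → W = V := by
  obtain ⟨V, hV⟩ := (Set.toFinite {V : Subgroup G | V.Normal ∧ V ≠ ⊥}).exists_minimal
    ⟨⊤, inferInstance, top_ne_bot⟩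
  exact ⟨V, hV.1.1, hV.1.2, fun W hW hle hne => le_antisymm hle (hV.2 ⟨hW, hne⟩ hle)⟩

theorem le_normalizer_of_minimal_aux : ∀ (n : ℕ) (G : Type u) [Group G] [Finite G],
    Nat.card G ≤ n → ∀ (V : Subgroup G), V.Normal →
      (∀ W : Subgroup G, W.Normal → W ≤ V → W ≠ ⊥ → W = V) →
      ∀ S : Subgroup G, S.IsSubnormal → V ≤ Subgroup.normalizer (S : Set G) := by
  intro n
  induction n with
  | zero => intro G _ _ h; exact absurd h (not_le.mpr Nat.card_pos)
  | succ n ih =>
  intro G _ _ hn V hV hmin S hS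
  rcases hS.lt_normal with rfl | ⟨M₁, hM₁, hSM, hlt⟩
  · exact le_top.trans_eq (Subgroup.normalizer_eq_top_iff.mpr inferInstance).symm
  by_cases hVM : V ⊓ M₁ = ⊥
  · intro v hv
    refine Subgroup.mem_normalizer_iff.mpr fun x => ?_
    have hcomm : ∀ y ∈ M₁, v * y * v⁻¹ = y := fun y hy => by
      have h1 : v * y * v⁻¹ * y⁻¹ ∈ V ⊓ M₁ :=
        ⟨by simpa [mul_assoc] using V.mul_mem hv (hV.conj_mem _ (V.inv_mem hv) y),
          M₁.mul_mem (hM₁.conj_mem y hy v) (M₁.inv_mem hy)⟩
      rw [hVM, Subgroup.mem_bot] at h1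
      exact mul_inv_eq_one.mp h1
    constructor
    · intro hx; rwa [hcomm x (hSM hx)]
    · intro hx
      have hx' : x ∈ M₁ := by
        have := hM₁.conj_mem _ (hSM hx) v⁻¹
        simpa [mul_assoc] using this
      rwa [hcomm x hx'] at hx
  have hVle : V ≤ M₁ := inf_eq_left.mp (hmin _ inferInstance inf_le_left hVM)
  let 𝒮 : Set (Subgroup G) := {T | T.IsSubnormal ∧ T ≤ M₁}
  let W : Subgroup G := V ⊓ ⨅ T ∈ 𝒮, Subgroup.normalizer (T : Set G)
  suffices hW : W = V by
    intro v hv
    rw [← hW] at hv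
    exact Subgroup.mem_iInf.mp (Subgroup.mem_iInf.mp hv.2 S) ⟨hS, hSM⟩
  refine hmin W ⟨fun w hw g => ⟨hV.conj_mem w hw.1 g, ?_⟩⟩ inf_le_left ?_
  · refine Subgroup.mem_iInf.mpr fun T => Subgroup.mem_iInf.mpr fun hT => ?_
    have hT' : (MulAut.conj g⁻¹ • T) ∈ 𝒮 := ⟨hT.1.smul _, fun x hx => by
      have h1 := mem_conj_smul.mp hx
      have h2 := hM₁.conj_mem _ (hT.2 h1) g⁻¹
      simpa [mul_assoc] using h2⟩
    have hw' := Subgroup.mem_iInf.mp (Subgroup.mem_iInf.mp hw.2 _) hT'
    refine Subgroup.mem_normalizer_iff.mpr fun x => ?_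
    have := Subgroup.mem_normalizer_iff.mp hw' (g⁻¹ * x * g)
    rw [mem_conj_smul, mem_conj_smul] at this
    simpa [mul_assoc] using this
  · have : Nontrivial (V.subgroupOf M₁) := by
      rw [Subgroup.nontrivial_iff_ne_bot, Ne, Subgroup.subgroupOf_eq_bot, disjoint_iff]
      exact hVM
    obtain ⟨V₀, hV₀⟩ := (Set.toFinite
      {X : Subgroup M₁ | X.Normal ∧ X ≠ ⊥ ∧ X ≤ V.subgroupOf M₁}).exists_minimal
      ⟨V.subgroupOf M₁, inferInstance, (Subgroup.nontrivial_iff_ne_bot _).mp this, le_rfl⟩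
    have hlt' := Lib.Cores.Subnormal.card_lt_of_ne_top hlt.ne
    have key := ih M₁ (by omega) V₀ hV₀.1.1 (fun X hX hXle hXne =>
      le_antisymm hXle (hV₀.2 ⟨hX, hXne, hXle.trans hV₀.1.2.2⟩ hXle))
    obtain ⟨⟨v, hv⟩, hv1⟩ := Subgroup.ne_bot_iff_exists_ne_one.mp hV₀.1.2.1
    intro hW
    have hmem : (v : G) ∈ W := by
      refine ⟨hV₀.1.2.2 hv, Subgroup.mem_iInf.mpr fun T => Subgroup.mem_iInf.mpr fun hT => ?_⟩
      have h1 := key (T.subgroupOf M₁) hT.1.subgroupOf hv
      rw [← Subgroup.subgroupOf_normalizer_eq hT.2] at h1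
      exact h1
    rw [hW, Subgroup.mem_bot] at hmem
    exact hv1 (Subtype.ext (Subtype.ext hmem))

/-- A minimal normal subgroup normalises every subnormal subgroup. -/
theorem le_normalizer_of_minimal {V : Subgroup G} (hV : V.Normal)
    (hmin : ∀ W : Subgroup G, W.Normal → W ≤ V → W ≠ ⊥ → W = V) {S : Subgroup G}
    (hS : S.IsSubnormal) : V ≤ Subgroup.normalizer (S : Set G) :=
  le_normalizer_of_minimal_aux _ G le_rfl V hV hmin S hS

theorem subgroupOf_sn_of_le {A X Y : Subgroup G} (hXY : X ≤ Y)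
    (h : (A.subgroupOf Y).IsSubnormal) : (A.subgroupOf X).IsSubnormal :=
  h.comap (Subgroup.inclusion hXY)

theorem subgroupOf_sn_conj (c : G) {A X : Subgroup G} (h : (A.subgroupOf X).IsSubnormal) :
    ((MulAut.conj c • A).subgroupOf (MulAut.conj c • X)).IsSubnormal := by
  let φ : (MulAut.conj c • X : Subgroup G) →* X :=
    ((MulAut.conj c⁻¹).toMonoidHom.comp (MulAut.conj c • X : Subgroup G).subtype).codRestrict X
      fun x => by
        have := mem_conj_smul.mp x.2
        simpa using this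
  refine (congrArg Subgroup.IsSubnormal ?_).mp (h.comap φ)
  ext x
  rw [Subgroup.mem_comap, Subgroup.mem_subgroupOf, Subgroup.mem_subgroupOf, mem_conj_smul]
  simp [φ]

theorem eq_top_of_normalClosure {A : Subgroup G}
    (hcl : Subgroup.normalClosure (A : Set G) = ⊤) (hA : A.IsSubnormal) : A = ⊤ := by
  rcases hA.lt_normal with h | ⟨N, hN, hle, hlt⟩
  · exact h
  · have := hN
    exact absurd (top_le_iff.mp (hcl ▸ Subgroup.normalClosure_le_normal hle)) hlt.ne

theorem eq_of_isCoatom_le {M K : Subgroup G} (hM : IsCoatom M) (hK : IsCoatom K) (h : M ≤ K) :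
    K = M := (hM.le_iff.mp h).resolve_left hK.1

theorem normalizer_coatom_eq {M : Subgroup G} (hM : IsCoatom M) (hn : ¬ M.Normal) :
    Subgroup.normalizer (M : Set G) = M :=
  (hM.le_iff.mp Subgroup.le_normalizer).resolve_left fun h =>
    hn (Subgroup.normalizer_eq_top_iff.mp h)

theorem unique_maximal_aux : ∀ (n : ℕ) (G : Type u) [Group G] [Finite G], Nat.card G ≤ n →
    ∀ A M : Subgroup G, Subgroup.normalClosure (A : Set G) = ⊤ → IsCoatom M → A ≤ M →
    (∀ X : Subgroup G, X ≠ ⊤ → A ≤ X → ¬ X ≤ M → (A.subgroupOf X).IsSubnormal) →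
    ∀ K : Subgroup G, IsCoatom K → A ≤ K → K = M := by
  intro n
  induction n with
  | zero => intro G _ _ h; exact absurd h (not_le.mpr Nat.card_pos)
  | succ n ih =>
  intro G _ _ hn A M hcl hM hAM h K hK hAK
  classical
  have hKle : ∀ {L : Subgroup G}, IsCoatom L → L ≠ M → ¬ L ≤ M := fun hL hne hle =>
    hne (eq_of_isCoatom_le hL hM hle).symm
  by_cases hKM : K = M
  · exact hKM
  exfalso
  have hMn : ¬ M.Normal := fun hn' =>
    hM.1 (top_le_iff.mp (hcl ▸ Subgroup.normalClosure_le_normal hAM))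
  by_cases hcore : M.normalCore = ⊥
  swap
  · let N := M.normalCore
    let f := QuotientGroup.mk' N
    have hf : Function.Surjective f := QuotientGroup.mk'_surjective N
    have hNM : N ≤ M := M.normalCore_le
    have hcard : Nat.card (G ⧸ N) ≤ n := by
      have h1 := Subgroup.card_eq_card_quotient_mul_card_subgroup N
      have h2 : 2 ≤ Nat.card N := (Subgroup.one_lt_card_iff_ne_bot N).mpr hcore
      have h3 : Nat.card (G ⧸ N) * 2 ≤ Nat.card G := h1 ▸ Nat.mul_le_mul_left _ h2
      have : 0 < Nat.card (G ⧸ N) := Nat.card_pos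
      omega
    have hcl' : Subgroup.normalClosure ((A.map f : Subgroup (G ⧸ N)) : Set (G ⧸ N)) = ⊤ := by
      rw [Subgroup.coe_map, ← Subgroup.map_normalClosure _ f hf, hcl,
        Subgroup.map_top_of_surjective f hf]
    have hcm : ∀ L : Subgroup G, N ≤ L → (L.map f).comap f = L := fun L hL => by
      rw [Subgroup.comap_map_eq, QuotientGroup.ker_mk', sup_eq_left.mpr hL]
    have hcoat : ∀ L : Subgroup G, IsCoatom L → N ≤ L → IsCoatom (L.map f) := by
      intro L hL hNL
      refine ⟨fun ht => hL.1 ?_, fun X hX => ?_⟩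
      · rw [← hcm L hNL, ht, Subgroup.comap_top]
      · have h1 : L < X.comap f := by
          refine lt_of_le_of_ne (Subgroup.map_le_iff_le_comap.mp hX.le) fun he => hX.ne ?_
          rw [he, Subgroup.map_comap_eq_self_of_surjective hf]
        rw [← Subgroup.map_comap_eq_self_of_surjective hf X, hL.2 _ h1,
          Subgroup.map_top_of_surjective f hf]
    by_cases hNK : N ≤ K
    · have hu := ih (G ⧸ N) hcard (A.map f) (M.map f) hcl' (hcoat M hM hNM)
        (Subgroup.map_mono hAM) ?_ (K.map f) (hcoat K hK hNK) (Subgroup.map_mono hAK)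
      · exact hKM (by rw [← hcm K hNK, hu, hcm M hNM])
      intro X hX hAX hXM
      have hX' : X.comap f ≠ ⊤ := fun ht => hX (by
        rw [← Subgroup.map_comap_eq_self_of_surjective hf X, ht, Subgroup.map_top_of_surjective f hf])
      have hXM' : ¬ X.comap f ≤ M := fun hle => hXM (by
        rw [← Subgroup.map_comap_eq_self_of_surjective hf X]
        exact Subgroup.map_mono hle)
      have hsn := h _ hX' (Subgroup.map_le_iff_le_comap.mp hAX) hXM'
      let φ : (X.comap f : Subgroup G) →* X :=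
        (f.comp (X.comap f).subtype).codRestrict X fun x => x.2
      have hφ : Function.Surjective φ := fun y => by
        obtain ⟨x, hx⟩ := hf y
        exact ⟨⟨x, show f x ∈ X by rw [hx]; exact y.2⟩, Subtype.ext hx⟩
      refine (congrArg Subgroup.IsSubnormal ?_).mp (hsn.map (f := φ) hφ)
      ext y
      constructor
      · rintro ⟨x, hx, rfl⟩
        exact ⟨x, hx, rfl⟩
      · rintro ⟨a, ha, hay⟩
        exact ⟨⟨a, show f a ∈ X by rw [hay]; exact y.2⟩, ha, Subtype.ext hay⟩
    · have htop : K ⊔ N = ⊤ := hK.2 _ (lt_of_le_of_ne le_sup_left fun he =>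
        hNK (he ▸ le_sup_right))
      have hφ : Function.Surjective (f.comp K.subtype) := by
        rw [← MonoidHom.range_eq_top, MonoidHom.range_comp, K.range_subtype]
        apply Subgroup.comap_injective hf
        rw [Subgroup.comap_map_eq, QuotientGroup.ker_mk', htop, Subgroup.comap_top]
      have hsn := (h K hK.1 hAK (hKle hK hKM)).map (f := f.comp K.subtype) hφ
      rw [← Subgroup.map_map, Subgroup.subgroupOf_map_subtype, inf_eq_left.mpr hAK] at hsn
      have htopA := eq_top_of_normalClosure hcl' hsn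
      apply hM.1
      have hMtop : M.map f = ⊤ := top_le_iff.mp (htopA.symm.le.trans (Subgroup.map_mono hAM))
      rw [← hcm M hNM, hMtop, Subgroup.comap_top]
  have hnot : ¬ A.IsSubnormal := fun hsn => hM.1 (top_le_iff.mp (eq_top_of_normalClosure hcl hsn ▸ hAM))
  have hMconj : ∀ c : G, IsCoatom (MulAut.conj c • M : Subgroup G) := by
    intro c
    refine ⟨fun ht => hM.1 ?_, fun X hX => ?_⟩
    · exact top_le_iff.mp fun x _ => Subgroup.smul_mem_pointwise_smul_iff.mp
        (ht ▸ Subgroup.mem_top (MulAut.conj c • x))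
    · have h1 : M < (MulAut.conj c)⁻¹ • X := by
        refine lt_of_le_of_ne (Subgroup.pointwise_smul_subset_iff.mp hX.le) fun he => hX.ne ?_
        rw [he, smul_inv_smul]
      refine top_le_iff.mp fun x _ => ?_
      rw [← Subgroup.smul_mem_pointwise_smul_iff (a := (MulAut.conj c)⁻¹), hM.2 _ h1]
      exact Subgroup.mem_top _
  have htrans : ∀ (g : G) (X : Subgroup G), X ≠ ⊤ → MulAut.conj g • A ≤ X →
      ¬ X ≤ MulAut.conj g • M → ((MulAut.conj g • A).subgroupOf X).IsSubnormal := by
    intro g X hX hAX hXM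
    have hX' : (MulAut.conj g)⁻¹ • X ≠ ⊤ := fun ht => hX (top_le_iff.mp fun x _ => by
      rw [← Subgroup.smul_mem_pointwise_smul_iff (a := (MulAut.conj g)⁻¹), ht]
      exact Subgroup.mem_top _)
    have hsn := h _ hX' (Subgroup.pointwise_smul_subset_iff.mp hAX) fun hle => hXM (by
      rw [← smul_inv_smul (MulAut.conj g) X]
      exact Subgroup.pointwise_smul_le_pointwise_smul_iff.mpr hle)
    have h2 := subgroupOf_sn_conj g hsn
    rwa [smul_inv_smul] at h2
  have hNA : Subgroup.normalizer (A : Set G) ≤ M := by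
    by_contra hc
    obtain ⟨c, hc, hcM⟩ := SetLike.not_le_iff_exists.mp hc
    have hcA : MulAut.conj c • A = A := Subgroup.mem_normalizer_iff_map_conj_eq.mp hc
    have hcne : MulAut.conj c • M ≠ M := fun he => hcM (by
      have := Subgroup.mem_normalizer_iff_map_conj_eq.mpr he
      rwa [normalizer_coatom_eq hM hMn] at this)
    have hsnM : (A.subgroupOf M).IsSubnormal := by
      have := htrans c M hM.1 (hcA.le.trans hAM) fun hle =>
        hcne (eq_of_isCoatom_le hM (hMconj c) hle)
      rwa [hcA] at this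
    obtain ⟨M', -, -, hu⟩ := Lib.Cores.Subnormal.zipper (A := A) (fun X hX hAX => by
      by_cases hXM : X ≤ M
      · exact subgroupOf_sn_of_le hXM hsnM
      · exact h X hX hAX hXM) hnot
    exact hKM ((hu K hK hAK).trans (hu M hM hAM).symm)
  obtain ⟨K, ⟨hK, hAK, hKM⟩, hmax⟩ := Set.exists_max_image
    {L : Subgroup G | IsCoatom L ∧ A ≤ L ∧ L ≠ M} (fun L => Nat.card (L ⊓ M : Subgroup G))
    (Set.toFinite _) ⟨K, hK, hAK, hKM⟩
  let C := K ⊓ M
  let 𝒢 : Set G := {g | MulAut.conj g • A ≤ C}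
  have h1G : (1 : G) ∈ 𝒢 := by
    change MulAut.conj (1 : G) • A ≤ C
    rw [map_one, one_smul]
    exact le_inf hAK hAM
  let W : Subgroup G := ⨅ g ∈ 𝒢, MulAut.conj g • M
  have hWmem : ∀ {x : G}, x ∈ W ↔ ∀ g ∈ 𝒢, x ∈ MulAut.conj g • M := fun {x} => by
    simp only [W, Subgroup.mem_iInf]
  -- a maximal subgroup above `C` has an element outside `C` normalising `W`
  have side : ∀ X : Subgroup G, IsCoatom X → C ≤ X → (∃ x ∈ X, x ∉ C) →
      ∃ f ∈ X, f ∉ C ∧ ∀ x ∈ W, f * x * f⁻¹ ∈ W := by
    intro X hX hCX hXC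
    let := Fintype.ofFinite G
    let s : Finset G := Finset.univ.filter fun g => g ∈ 𝒢 ∧ MulAut.conj g • M ≠ X
    let R : Subgroup G := s.sup fun g => MulAut.conj g • A
    have hs : ∀ {g}, g ∈ s ↔ g ∈ 𝒢 ∧ MulAut.conj g • M ≠ X := by simp [s]
    have hRC : R ≤ C := Finset.sup_le fun g hg => (hs.mp hg).1
    have key : ∀ t : Finset G, t ⊆ s →
        ((t.sup fun g => MulAut.conj g • A).subgroupOf X).IsSubnormal ∧
          (t.sup fun g => MulAut.conj g • A) ≤ X := by
      intro t
      induction t using Finset.induction_on with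
      | empty =>
        intro _
        rw [Finset.sup_empty, Subgroup.bot_subgroupOf]
        exact ⟨Subgroup.IsSubnormal.bot, bot_le⟩
      | insert a t _ iht =>
        intro hsub
        rw [Finset.insert_subset_iff] at hsub
        obtain ⟨hat, hneX⟩ := hs.mp hsub.1
        have haX : MulAut.conj a • A ≤ X := le_trans hat hCX
        rw [Finset.sup_insert]
        refine ⟨?_, sup_le haX (iht hsub.2).2⟩
        rw [Subgroup.subgroupOf_sup haX (iht hsub.2).2]
        exact Lib.Cores.Subnormal.sup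
          (htrans a X hX.1 haX fun hle => hneX (eq_of_isCoatom_le hX (hMconj a) hle))
          (iht hsub.2).1
    have hRsn : (R.subgroupOf X).IsSubnormal := (key s (Finset.Subset.refl _)).1
    have hRX : R ≤ X := hRC.trans hCX
    obtain ⟨f, hfX, hfC, hfR⟩ : ∃ f ∈ X, f ∉ C ∧ MulAut.conj f • R = R := by
      by_cases hn : (R.subgroupOf X).Normal
      · obtain ⟨f, hf, hfC⟩ := hXC
        exact ⟨f, hf, hfC, Subgroup.mem_normalizer_iff_map_conj_eq.mp
          ((Subgroup.normal_subgroupOf_iff_le_normalizer hRX).mp hn hf)⟩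
      obtain ⟨c, hc1, hc2⟩ := Lib.Cores.Subnormal.exists_conj_le_normalizer hRsn hn
      by_contra hcon
      have hNC : ∀ y ∈ X, y ∈ Subgroup.normalizer (R : Set G) → y ∈ C := fun y hy hyR =>
        by_contra fun hyC => hcon ⟨y, hy, hyC, Subgroup.mem_normalizer_iff_map_conj_eq.mp hyR⟩
      have hcR : MulAut.conj (c : G) • R ≤ R := by
        rw [Subgroup.pointwise_smul_subset_iff]
        refine Finset.sup_le fun g hg => ?_
        obtain ⟨hgC, hgX⟩ := hs.mp hg
        rw [← Subgroup.pointwise_smul_subset_iff, ← mul_smul, ← map_mul]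
        refine Finset.le_sup (f := fun g => MulAut.conj g • A) (hs.mpr ⟨?_, ?_⟩)
        · intro y hy
          rw [map_mul, mul_smul] at hy
          obtain ⟨z, hz, rfl⟩ := hy
          have hzR : z ∈ R := Finset.le_sup (f := fun g => MulAut.conj g • A) hg hz
          have hzX : z ∈ X := hRX hzR
          have h1 : MulAut.conj c • (⟨z, hzX⟩ : X) ∈
              Subgroup.normalizer ((R.subgroupOf X : Subgroup X) : Set X) :=
            hc2 (Subgroup.smul_mem_pointwise_smul (⟨z, hzX⟩ : X) _ _ hzR)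
          rw [← Subgroup.subgroupOf_normalizer_eq hRX] at h1
          exact hNC _ (X.mul_mem (X.mul_mem c.2 hzX) (X.inv_mem c.2)) h1
        · intro he
          apply hgX
          rw [map_mul, mul_smul, ← eq_inv_smul_iff] at he
          rw [he, ← map_inv]
          exact Subgroup.mem_normalizer_iff_map_conj_eq.mp
            (Subgroup.le_normalizer (X.inv_mem c.2))
      apply hc1
      refine Subgroup.eq_of_le_of_card_ge (fun y hy => ?_)
        (Nat.card_congr (Subgroup.equivSMul (MulAut.conj c) (R.subgroupOf X)).toEquiv).le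
      rw [mem_conj_smul, Subgroup.mem_subgroupOf] at hy
      rw [Subgroup.mem_subgroupOf]
      refine hcR (mem_conj_smul.mpr ?_)
      simpa using hy
    refine ⟨f, hfX, hfC, fun x hx => hWmem.mpr fun g hg => ?_⟩
    by_cases hgX : MulAut.conj g • M = X
    · rw [hgX]
      have := hWmem.mp hx g hg
      rw [hgX] at this
      exact X.mul_mem (X.mul_mem hfX this) (X.inv_mem hfX)
    · have hg' : f⁻¹ * g ∈ 𝒢 := by
        change MulAut.conj (f⁻¹ * g) • A ≤ C
        refine le_trans ?_ hRC
        rw [map_mul, mul_smul, map_inv, ← Subgroup.subset_pointwise_smul_iff, hfR]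
        exact Finset.le_sup (f := fun g => MulAut.conj g • A) (hs.mpr ⟨hg, hgX⟩)
      have := hWmem.mp hx _ hg'
      rw [mem_conj_smul] at this ⊢
      simpa [mul_assoc] using this
  obtain ⟨fM, hfM, hfMC, hfMW⟩ := side M hM inf_le_right (by
    obtain ⟨x, hx, hxK⟩ := SetLike.not_le_iff_exists.mp
      (fun hle : M ≤ K => hKM (eq_of_isCoatom_le hM hK hle))
    exact ⟨x, hx, fun hC => hxK hC.1⟩)
  obtain ⟨fK, hfK, hfKC, hfKW⟩ := side K hK inf_le_left (by
    obtain ⟨x, hx, hxM⟩ := SetLike.not_le_iff_exists.mp (hKle hK hKM)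
    exact ⟨x, hx, fun hC => hxM hC.2⟩)
  have hWM : W ≤ M := fun x hx => by
    simpa using hWmem.mp hx 1 h1G
  have hWne : W ≠ ⊥ := by
    have : Nontrivial M := (Subgroup.nontrivial_iff_ne_bot M).mpr fun hb => by
      rw [hb, le_bot_iff] at hAM
      rw [hAM] at hcl
      have htb : (⊥ : Subgroup G) = ⊤ := top_le_iff.mp
        (hcl ▸ Subgroup.normalClosure_le_normal (N := (⊥ : Subgroup G)) (le_refl _))
      exact hM.1 (hb.trans htb)
    obtain ⟨V, hV, hVne, hVmin⟩ := exists_minimal_normal (G := M)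
    obtain ⟨⟨v, hv⟩, hv1⟩ := Subgroup.ne_bot_iff_exists_ne_one.mp hVne
    intro hW
    have hm : (v : G) ∈ W := hWmem.mpr fun g hg => by
      by_cases hgM : MulAut.conj g • M = M
      · rw [hgM]; exact v.2
      · have hgA : MulAut.conj g • A ≤ M := le_trans hg inf_le_right
        have h1 := le_normalizer_of_minimal hV hVmin
          (htrans g M hM.1 hgA fun hle => hgM (eq_of_isCoatom_le hM (hMconj g) hle)) hv
        rw [← Subgroup.subgroupOf_normalizer_eq hgA, Subgroup.mem_subgroupOf,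
          Subgroup.mem_normalizer_iff] at h1
        rw [mem_conj_smul]
        refine hNA (Subgroup.mem_normalizer_iff.mpr fun y => ?_)
        have := h1 (g * y * g⁻¹)
        simpa [mem_conj_smul, mul_assoc] using this
    rw [hW, Subgroup.mem_bot] at hm
    exact hv1 (Subtype.ext (Subtype.ext hm))
  have hNne : Subgroup.normalizer (W : Set G) ≠ ⊤ := fun ht => hWne (by
    have : W.Normal := Subgroup.normalizer_eq_top_iff.mp ht
    rw [← le_bot_iff, ← hcore]
    exact Subgroup.normal_le_normalCore.mpr hWM)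
  obtain ⟨L, hL, hNL⟩ := (eq_top_or_exists_le_coatom _).resolve_left hNne
  have hmemN : ∀ f : G, (∀ x ∈ W, f * x * f⁻¹ ∈ W) → f ∈ L := fun f hf =>
    hNL (Subgroup.mem_normalizer_iff_map_conj_eq.mpr (Subgroup.eq_of_le_of_card_ge
      (fun x hx => by obtain ⟨z, hz, rfl⟩ := hx; exact hf z hz)
      (Nat.card_congr (Subgroup.equivSMul (MulAut.conj f) W).toEquiv).le))
  have hCL : C ≤ L := fun c hc => hmemN c fun x hx => hWmem.mpr fun g hg => by
    have hg' : c⁻¹ * g ∈ 𝒢 := by
      change MulAut.conj (c⁻¹ * g) • A ≤ C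
      rw [map_mul, mul_smul, map_inv, ← Subgroup.subset_pointwise_smul_iff]
      exact hg.trans_eq (Subgroup.mem_normalizer_iff_map_conj_eq.mp (Subgroup.le_normalizer hc)).symm
    have := hWmem.mp hx _ hg'
    rw [mem_conj_smul] at this ⊢
    simpa [mul_assoc] using this
  have hLM : L ≠ M := fun he => hfKC ⟨hfK, he ▸ hmemN fK hfKW⟩
  have hlt : C < L ⊓ M := lt_of_le_of_ne (le_inf hCL inf_le_right)
    fun he => hfMC (he ▸ ⟨hmemN fM hfMW, hfM⟩)
  have hle : Nat.card (L ⊓ M : Subgroup G) ≤ Nat.card C :=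
    hmax L ⟨hL, (le_inf hAK hAM).trans hCL, hLM⟩
  exact hlt.ne (Subgroup.eq_of_le_of_card_ge hlt.le hle)

/-- If `A` is subnormal in every proper overgroup outside the maximal subgroup `M`, and its normal
closure is everything, then `M` is the only maximal subgroup containing `A`. -/
theorem unique_maximal {A M : Subgroup G} (hcl : Subgroup.normalClosure (A : Set G) = ⊤)
    (hM : IsCoatom M) (hAM : A ≤ M)
    (h : ∀ X : Subgroup G, X ≠ ⊤ → A ≤ X → ¬ X ≤ M → (A.subgroupOf X).IsSubnormal)
    {K : Subgroup G} (hK : IsCoatom K) (hAK : A ≤ K) : K = M :=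
  unique_maximal_aux _ G le_rfl A M hcl hM hAM h K hK hAK

end Cfsg.Agent.Lib.Subnormality.UniqueMaximal
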