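import Mathlib.GroupTheory.Schreier
import Mathlib.GroupTheory.SemidirectProduct
import Cfsg.Agent.Lib.Cores.Basic
import Cfsg.Agent.Lib.Transfer.PResidual
import Cfsg.Agent.Lib.Involutions.BaerSuzuki
import Cfsg.Agent.Lib.Coprime.Conjugacy

/-!
# Groups generated by the odd-order elements inverted by an involutory automorphism

`card_bounded` : the order of such a group is bounded by a function of the number of those elements.
The proof is elementary: Baer-Suzuki, a count of products of two conjugate involutions, Schur's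
theorem on the commutator subgroup.
-/

set_option autoImplicit false
set_option linter.unusedSectionVars false

open scoped Pointwise Classical

namespace Cfsg.Agent.Lib.Subnormality.InvolutoryAut

universe u

variable {G : Type u} [Group G]

/-- The elements of odd order inverted by `α`. -/
def oddInverted (α : G ≃* G) : Set G := {g | Odd (orderOf g) ∧ α g = g⁻¹}

/-- `α` is involutory and `G` is generated by the odd-order elements it inverts. -/
structure Hyp (α : G ≃* G) : Prop where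
  invol : ∀ c, α (α c) = c
  gen : Subgroup.closure (oddInverted α) = ⊤

/-- Invariance under `α`. -/
def Inv (α : G ≃* G) (N : Subgroup G) : Prop := ∀ x ∈ N, α x ∈ N

/-- Every inverted odd element of `V` is in `X`. -/
def FreeOver (α : G ≃* G) (X V : Subgroup G) : Prop := ∀ x ∈ V, x ∈ oddInverted α → x ∈ X

/-- The fixed subgroup. -/
def fixed (α : G ≃* G) : Subgroup G where
  carrier := {x | α x = x}
  one_mem' := map_one α
  mul_mem' := fun {a b} ha hb => by simp_all
  inv_mem' := fun {a} ha => by simp_all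

theorem one_mem_oddInverted (α : G ≃* G) : (1 : G) ∈ oddInverted α := by
  simp [oddInverted]

theorem eq_one_of_odd_of_pow_two {x : G} (h : Odd (orderOf x)) {k : ℕ} (hk : x ^ 2 ^ k = 1) :
    x = 1 :=
  orderOf_eq_one_iff.mp (Nat.eq_one_of_dvd_coprimes
    (Nat.Coprime.pow_right k (Nat.coprime_two_right.mpr h)) dvd_rfl (orderOf_dvd_of_pow_eq_one hk))

theorem pow_mem_oddInverted {α : G ≃* G} {x : G} (hx : x ∈ oddInverted α) (n : ℕ) :
    x ^ n ∈ oddInverted α :=
  ⟨hx.1.of_dvd_nat (orderOf_pow_dvd n), by rw [map_pow, hx.2, inv_pow]⟩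

theorem orderOf_le_ncard [Finite G] {α : G ≃* G} {x : G} (hx : x ∈ oddInverted α) :
    orderOf x ≤ (oddInverted α).ncard := by
  rw [← Nat.card_zpowers, ← SetLike.coe_sort_coe, Nat.card_coe_set_eq]
  refine Set.ncard_le_ncard (fun y hy => ?_) (Set.toFinite _)
  obtain ⟨n, rfl⟩ := mem_powers_iff_mem_zpowers.mpr hy
  exact pow_mem_oddInverted hx n

theorem card_le_of_fibres {A B : Type*} [Finite A] [Finite B] (φ : A → B) (k : ℕ)
    (h : ∀ b, Nat.card {a // φ a = b} ≤ k) : Nat.card A ≤ k * Nat.card B := by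
  have := Fintype.ofFinite B
  rw [← Nat.card_congr (Equiv.sigmaFiberEquiv φ), Nat.card_sigma, Nat.card_eq_fintype_card (α := B)]
  calc ∑ b, Nat.card {a // φ a = b} ≤ ∑ _b : B, k := Finset.sum_le_sum fun b _ => h b
    _ = k * Fintype.card B := by simp [mul_comm]

theorem exists_fact_pPart [Finite G] (g : G) : ∃ a b : G, a ∈ Subgroup.zpowers g ∧
    b ∈ Subgroup.zpowers g ∧ a * b = g ∧ a * b = b * a ∧ (∃ k : ℕ, a ^ 2 ^ k = 1) ∧
    Odd (orderOf b) := by
  have := Fact.mk Nat.prime_two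
  obtain ⟨a, b, ha, hb, h1, h2, hk, hb2⟩ := Transfer.PResidual.exists_pPart_mul_pPrimePart
    (p := 2) g (isOfFinOrder_of_finite g)
  exact ⟨a, b, ha, hb, h1, h2, hk, Nat.coprime_two_right.mp hb2⟩

section Basic

variable [Finite G] {α : G ≃* G} (hα : Hyp α)
include hα

theorem inverted_comm (g : G) : α (g * (α g)⁻¹) = (g * (α g)⁻¹)⁻¹ := by simp [hα.invol g]

theorem center_mem_of_commute {g : G} (h : ∀ x ∈ oddInverted α, g * x * g⁻¹ = x) :
    g ∈ Subgroup.center G := by
  refine Subgroup.mem_center_iff.mpr fun y => ?_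
  have hle : Subgroup.closure (oddInverted α) ≤ Subgroup.centralizer {g} := by
    refine (Subgroup.closure_le _).mpr fun x hx => Subgroup.mem_centralizer_iff.mpr ?_
    rintro z rfl
    exact mul_inv_eq_iff_eq_mul.mp (h x hx)
  exact (Subgroup.mem_centralizer_iff.mp (hle (hα.gen ▸ Subgroup.mem_top y)) g rfl).symm

/-- An element whose commutator with `α` is central permutes the inverted odd elements. -/
theorem conj_mem_oddInverted {g : G} (hg : g⁻¹ * α g ∈ Subgroup.center G) {x : G}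
    (hx : x ∈ oddInverted α) : g * x * g⁻¹ ∈ oddInverted α := by
  refine ⟨?_, ?_⟩
  · rw [show g * x * g⁻¹ = MulAut.conj g x from rfl, MulEquiv.orderOf_eq]
    exact hx.1
  have h := Subgroup.mem_center_iff.mp hg x⁻¹
  rw [map_mul, map_mul, hx.2, map_inv]
  calc α g * x⁻¹ * (α g)⁻¹ = g * ((g⁻¹ * α g) * x⁻¹) * (α g)⁻¹ := by group
    _ = g * (x⁻¹ * (g⁻¹ * α g)) * (α g)⁻¹ := by rw [← h]
    _ = _ := by group

end Basic

section Quotient

variable [Finite G] {Q : Type u} [Group Q] [Finite Q] {α : G ≃* G} {β : Q ≃* Q} {π : G →* Q}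
  (hπ : Function.Surjective π) (heq : ∀ g, β (π g) = π (α g)) (hα : Hyp α)
include hπ heq hα

theorem map_mem_oddInverted {x : G} (hx : x ∈ oddInverted α) : π x ∈ oddInverted β :=
  ⟨hx.1.of_dvd_nat (orderOf_map_dvd π x), by rw [heq, hx.2, map_inv]⟩

theorem hyp_map : Hyp β := by
  refine ⟨fun c => ?_, ?_⟩
  · obtain ⟨g, rfl⟩ := hπ c
    rw [heq, heq, hα.invol]
  · rw [eq_top_iff, ← Subgroup.map_top_of_surjective π hπ, ← hα.gen, MonoidHom.map_closure]
    refine Subgroup.closure_mono ?_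
    rintro _ ⟨x, hx, rfl⟩
    exact map_mem_oddInverted hπ heq hα hx

theorem exists_lift {q : Q} (hq : q ∈ oddInverted β) : ∃ x ∈ oddInverted α, π x = q := by
  obtain ⟨g, rfl⟩ := hπ q
  set y := g * (α g)⁻¹ with hy
  have hyq : π y = π g ^ 2 := by rw [hy, map_mul, map_inv, ← heq, hq.2, inv_inv, pow_two]
  obtain ⟨a, b, -, hb, hab, hcomm, ⟨k, hk⟩, hbo⟩ := exists_fact_pPart y
  have hyk : y ^ 2 ^ k ∈ oddInverted α := by
    refine ⟨?_, by rw [map_pow, hy, inverted_comm hα, inv_pow]⟩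
    rw [← hab, (show Commute a b from hcomm).mul_pow, hk, one_mul]
    exact hbo.of_dvd_nat (orderOf_pow_dvd _)
  obtain ⟨m, hm⟩ := exists_pow_eq_self_of_coprime (x := π g) (n := 2 ^ (k + 1))
    (Nat.Coprime.pow_left _ (Nat.coprime_two_left.mpr hq.1))
  refine ⟨(y ^ 2 ^ k) ^ m, pow_mem_oddInverted hyk m, ?_⟩
  rw [map_pow, map_pow, hyq, ← pow_mul, ← pow_mul, ← mul_assoc, ← pow_succ', pow_mul, hm]

theorem image_oddInverted : π '' oddInverted α = oddInverted β :=
  Set.Subset.antisymm (by rintro _ ⟨x, hx, rfl⟩; exact map_mem_oddInverted hπ heq hα hx)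
    fun _ hq => exists_lift hπ heq hα hq

theorem ncard_le : (oddInverted β).ncard ≤ (oddInverted α).ncard := by
  rw [← image_oddInverted hπ heq hα]
  exact Set.ncard_image_le (Set.toFinite _)

theorem ncard_lt {x : G} (hx : x ∈ oddInverted α) (hx1 : x ≠ 1) (hπx : π x = 1) :
    (oddInverted β).ncard < (oddInverted α).ncard := by
  rw [← image_oddInverted hπ heq hα]
  refine lt_of_le_of_ne (Set.ncard_image_le (Set.toFinite _)) fun he => hx1 ?_
  exact (Set.ncard_image_iff (Set.toFinite _)).mp he hx (one_mem_oddInverted α)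
    (by rw [hπx, map_one])

/-- Fixed points modulo the centre. -/
theorem card_fixed_mod_center (hker : π.ker = Subgroup.center G) :
    Nat.card (fixed β) ≤ (Nat.card (oddInverted α)).factorial := by
  have hg : ∀ q : fixed β, ∀ g, π g = q → g⁻¹ * α g ∈ Subgroup.center G := by
    rintro ⟨q, hq⟩ g hg
    rw [← hker, MonoidHom.mem_ker, map_mul, map_inv, ← heq, hg, show β q = q from hq, inv_mul_cancel]
  choose s hs using fun q : fixed β => hπ q
  let φ : fixed β → Equiv.Perm (oddInverted α) := fun q =>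
    Equiv.ofBijective (fun x => ⟨s q * x * (s q)⁻¹, conj_mem_oddInverted hα (hg q _ (hs q)) x.2⟩)
      (Finite.injective_iff_bijective.mp fun x y h => Subtype.ext (by
        simpa using congrArg Subtype.val h))
  have hφ : Function.Injective φ := fun q q' h => by
    have hc : (s q')⁻¹ * s q ∈ Subgroup.center G := center_mem_of_commute hα fun x hx => by
      have := congrArg Subtype.val (DFunLike.congr_fun h ⟨x, hx⟩)
      change s q * x * (s q)⁻¹ = s q' * x * (s q')⁻¹ at this
      calc (s q')⁻¹ * s q * x * ((s q')⁻¹ * s q)⁻¹ = (s q')⁻¹ * (s q * x * (s q)⁻¹) * s q' := by group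
        _ = x := by rw [this]; group
    rw [← hker, MonoidHom.mem_ker, map_mul, map_inv, hs, hs, inv_mul_eq_one] at hc
    exact Subtype.ext hc.symm
  exact (Nat.card_le_card_of_injective φ hφ).trans_eq Nat.card_perm

end Quotient

section Counting

variable [Finite G] {α : G ≃* G}

/-- The map `a ↦ a · α(a)⁻¹` has fibres of size at most the number of fixed points. -/
theorem card_le_fixed_mul (A : Subgroup G) (T : Set G) (h : ∀ a ∈ A, a * (α a)⁻¹ ∈ T) :
    Nat.card A ≤ Nat.card (fixed α) * Nat.card T := by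
  refine card_le_of_fibres (fun a : A => (⟨(a : G) * (α a)⁻¹, h a a.2⟩ : T)) _ fun t => ?_
  rcases isEmpty_or_nonempty {a : A // (⟨(a : G) * (α a)⁻¹, h a a.2⟩ : T) = t} with he | ⟨⟨a₀, ha₀⟩⟩
  · simp
  · refine Nat.card_le_card_of_injective
      (fun a => (⟨(a₀ : G)⁻¹ * ((a.1 : A) : G), ?_⟩ : fixed α)) fun a b hab => ?_
    · have h1 := congrArg Subtype.val (a.2.trans ha₀.symm)
      change α ((a₀ : G)⁻¹ * (a.1 : G)) = (a₀ : G)⁻¹ * (a.1 : G)
      change (a.1 : G) * (α a.1)⁻¹ = a₀ * (α a₀)⁻¹ at h1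
      have h3 : (α (a₀ : G))⁻¹ = (a₀ : G)⁻¹ * ((a.1 : G) * (α a.1)⁻¹) := by rw [h1]; group
      rw [map_mul, map_inv, h3]
      group
    · exact Subtype.ext (Subtype.ext (mul_left_cancel (congrArg Subtype.val hab)))

/-- The count of products of two conjugate involutions: a normal `2`-subgroup is bounded modulo the
centraliser of an inverted odd element. -/
theorem card_pGroup_le (hinv : ∀ c, α (α c) = c) {Q : Subgroup G} [Q.Normal] (hQ : IsPGroup 2 Q)
    (hQi : Inv α Q) {j₀ : G} (hj₀ : j₀ ∈ oddInverted α) :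
    Nat.card Q ≤ Nat.card (fixed α) ^ 2 *
      Nat.card (Q ⊓ Subgroup.centralizer {j₀} : Subgroup G) := by
  set j := j₀ * j₀ with hjdef
  have hjo : j ∈ oddInverted α := by rw [hjdef, ← pow_two]; exact pow_mem_oddInverted hj₀ 2
  have hcj : ∀ z, z * j = j * z → z * j₀ = j₀ * z := by
    intro z hz
    obtain ⟨m, hm⟩ := exists_pow_eq_self_of_coprime (x := j₀) (n := 2)
      (Nat.coprime_two_left.mpr hj₀.1)
    rw [pow_two] at hm
    have : Commute z ((j₀ * j₀) ^ m) := (show Commute z j from hz).pow_right m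
    rwa [hm] at this
  let c := Nat.card (fixed α)
  let π := QuotientGroup.mk' Q
  let X := {x : G // π x = π j}
  let good : G → G → Prop := fun x y => y ∈ Q ∧ y * α x * y⁻¹ = x⁻¹
  have hπQ : ∀ {g : G}, g ∈ Q → π g = 1 := fun hg => (QuotientGroup.eq_one_iff _).mpr hg
  have hX : ∀ ab : Q × Q, π ((ab.1 : G) * (α ab.1)⁻¹ * (α ab.2 * j * (ab.2 : G)⁻¹)) = π j :=
    fun ab => by simp [hπQ (ab.1).2, hπQ (hQi _ (ab.1).2), hπQ (ab.2).2, hπQ (hQi _ (ab.2).2)]
  have hgood : ∀ ab : Q × Q, good ((ab.1 : G) * (α ab.1)⁻¹ * (α ab.2 * j * (ab.2 : G)⁻¹))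
      ((ab.1 : G) * (α ab.1)⁻¹) := fun ab => by
    refine ⟨Q.mul_mem (ab.1).2 (Q.inv_mem (hQi _ (ab.1).2)), ?_⟩
    simp only [map_mul, map_inv, hinv, hjo.2]
    group
  let Φ : Q × Q → Σ x : X, {y : G // good x.1 y} := fun ab => ⟨⟨_, hX ab⟩, ⟨_, hgood ab⟩⟩
  have hstep1 : Nat.card (Q × Q) ≤ c ^ 2 * Nat.card (Σ x : X, {y : G // good x.1 y}) := by
    refine card_le_of_fibres Φ _ fun t => ?_
    rcases isEmpty_or_nonempty {ab : Q × Q // Φ ab = t} with he | ⟨⟨⟨a₀, b₀⟩, h₀⟩⟩
    · simp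
    rw [pow_two, ← Nat.card_prod]
    have hkey : ∀ a b : Q, (a : G) * (α a)⁻¹ * (α b * j * (b : G)⁻¹) =
        (a₀ : G) * (α a₀)⁻¹ * (α b₀ * j * (b₀ : G)⁻¹) → (a : G) * (α a)⁻¹ = a₀ * (α a₀)⁻¹ →
        α ((a₀ : G)⁻¹ * a) = (a₀ : G)⁻¹ * a ∧
        α (j₀ * ((b₀ : G)⁻¹ * b) * j₀⁻¹) = j₀ * ((b₀ : G)⁻¹ * b) * j₀⁻¹ := by
      intro a b h1 h2
      constructor
      · rw [map_mul, map_inv]
        have h3 : (α a₀)⁻¹ = (a₀ : G)⁻¹ * ((a : G) * (α a)⁻¹) := by rw [h2]; group
        rw [h3]; group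
      · rw [h2] at h1
        have h3 := mul_left_cancel h1
        have hd : α ((b₀ : G)⁻¹ * b) * j = j * ((b₀ : G)⁻¹ * b) := by
          rw [map_mul, map_inv]
          calc (α b₀)⁻¹ * α b * j = (α b₀)⁻¹ * (α b * j * (b : G)⁻¹) * b := by group
            _ = _ := by rw [h3]; group
        rw [map_mul, map_mul, hj₀.2, map_inv, hj₀.2, inv_inv]
        calc j₀⁻¹ * α ((b₀ : G)⁻¹ * b) * j₀
            = j₀⁻¹ * (α ((b₀ : G)⁻¹ * b) * j) * j₀⁻¹ := by rw [hjdef]; group
          _ = _ := by rw [hd, hjdef]; group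
    have hmem := fun ab : {ab : Q × Q // Φ ab = t} =>
      hkey ab.1.1 ab.1.2
        (congrArg (fun s : Σ x : X, {y : G // good x.1 y} => (s.1 : G)) (ab.2.trans h₀.symm))
        (congrArg (fun s : Σ x : X, {y : G // good x.1 y} => (s.2 : G)) (ab.2.trans h₀.symm))
    refine Nat.card_le_card_of_injective
      (fun ab => ((⟨_, (hmem ab).1⟩ : fixed α), (⟨_, (hmem ab).2⟩ : fixed α))) fun u v huv => ?_
    have h1 := congrArg (fun z : fixed α × fixed α => (z.1 : G)) huv
    have h2 := congrArg (fun z : fixed α × fixed α => (z.2 : G)) huv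
    exact Subtype.ext (Prod.ext (Subtype.ext (mul_left_cancel h1))
      (Subtype.ext (mul_left_cancel (mul_left_cancel (mul_right_cancel h2)))))
  have hstep2 : Nat.card (Σ x : X, {y : G // good x.1 y}) ≤
      Nat.card (Σ x : X, (Q ⊓ Subgroup.centralizer {x.1} : Subgroup G)) := by
    have hex : ∀ x : X, ∀ y : {y : G // good x.1 y}, ∃ y₀, good x.1 y₀ := fun x y => ⟨y, y.2⟩
    refine Nat.card_le_card_of_injective (fun s => ⟨s.1, ⟨(s.2 : G) *
      (Classical.choose (hex s.1 s.2))⁻¹, ?_⟩⟩) ?_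
    · obtain ⟨hy, hyx⟩ := s.2.2
      obtain ⟨hy₀, hy₀x⟩ := Classical.choose_spec (hex s.1 s.2)
      refine ⟨Q.mul_mem hy (Q.inv_mem hy₀), Subgroup.mem_centralizer_iff.mpr ?_⟩
      rintro x rfl
      set y : G := (s.2 : G)
      set y₀ : G := Classical.choose (hex s.1 s.2)
      have h1 : α s.1.1 = y⁻¹ * (s.1.1)⁻¹ * y := by rw [← hyx]; group
      rw [h1] at hy₀x
      have h2 : (y * y₀⁻¹) * (s.1.1)⁻¹ = (s.1.1)⁻¹ * (y * y₀⁻¹) :=
        calc (y * y₀⁻¹) * (s.1.1)⁻¹ = (y * y₀⁻¹) * (y₀ * (y⁻¹ * (s.1.1)⁻¹ * y) * y₀⁻¹) := by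
              rw [hy₀x]
          _ = _ := by group
      exact (Commute.inv_right_iff.mp h2).eq.symm
    · rintro ⟨x, y⟩ ⟨x', y'⟩ h
      obtain ⟨rfl, h⟩ := Sigma.mk.inj_iff.mp h
      have h' := congrArg Subtype.val (eq_of_heq h)
      simp only [mul_left_inj] at h'
      exact Sigma.ext rfl (heq_of_eq (Subtype.ext h'))
  have hstep3 : Nat.card (Σ x : X, (Q ⊓ Subgroup.centralizer {x.1} : Subgroup G)) ≤
      Nat.card (Q × (Q ⊓ Subgroup.centralizer {j} : Subgroup G)) := by
    have hsurj : ∀ x : X, ∃ q ∈ Q, ∃ z ∈ Q ⊓ Subgroup.centralizer {j},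
        x.1 = q * (z * j) * q⁻¹ := by
      rintro ⟨x, hx⟩
      obtain ⟨a, b, -, -, hab, hcomm, ⟨k, hk⟩, hb⟩ := exists_fact_pPart x
      have hπb : π b = π j ∧ π a = 1 := by
        have hπa : π a = π j * (π b)⁻¹ := by rw [← hx, ← hab, map_mul, mul_inv_cancel_right]
        have hc : Commute (π j) (π b) := by
          rw [← hx, ← hab, map_mul]
          exact Commute.mul_left (Commute.map hcomm π) (Commute.refl _)
        have h1 : π a = 1 := eq_one_of_odd_of_pow_two (k := k) (by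
          rw [hπa]
          refine Odd.of_dvd_nat ?_ (Commute.orderOf_mul_dvd_lcm hc.inv_right)
          refine Odd.of_dvd_nat (Odd.mul ?_ ?_) (Nat.lcm_dvd_mul _ _)
          · exact hjo.1.of_dvd_nat (orderOf_map_dvd π j)
          · rw [orderOf_inv]; exact hb.of_dvd_nat (orderOf_map_dvd π b)) (by
          rw [← map_pow, hk, map_one])
        exact ⟨(mul_inv_eq_one.mp (hπa.symm.trans h1)).symm, h1⟩
      have haQ : a ∈ Q := (QuotientGroup.eq_one_iff _).mp hπb.2
      have hord : orderOf b = orderOf j := by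
        have key : ∀ u v : G, Odd (orderOf u) → π u = π v → orderOf u ∣ orderOf v := by
          intro u v hu huv
          refine orderOf_dvd_of_pow_eq_one ?_
          have hm : u ^ orderOf v ∈ Q := (QuotientGroup.eq_one_iff _).mp (by
            change π (u ^ orderOf v) = 1
            rw [map_pow, huv, ← map_pow, pow_orderOf_eq_one, map_one])
          obtain ⟨l, hl⟩ := hQ ⟨_, hm⟩
          exact eq_one_of_odd_of_pow_two (hu.of_dvd_nat (orderOf_pow_dvd _))
            (congrArg Subtype.val hl)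
        exact Nat.dvd_antisymm (key b j hb hπb.1) (key j b hjo.1 hπb.1.symm)
      obtain ⟨l, hl⟩ := IsPGroup.iff_card.mp hQ
      have := hQ.isNilpotent
      obtain ⟨q, hq, hqA⟩ := Lib.Coprime.exists_conj_eq_of_coprime (A := Subgroup.zpowers j)
        (B := Subgroup.zpowers b) (K := Q) Subgroup.le_normalizer_of_normal
        (by rw [Nat.card_zpowers, hl]; exact (Nat.coprime_two_right.mpr hjo.1).pow_right l)
        (Or.inr inferInstance) (Subgroup.zpowers_le.mpr (by
          have : b * j⁻¹ ∈ Q := (QuotientGroup.eq_one_iff _).mp (by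
            change π (b * j⁻¹) = 1
            rw [map_mul, map_inv, hπb.1, mul_inv_cancel])
          have h2 := mul_mem (Subgroup.mem_sup_right (S := Subgroup.zpowers j) this)
            (Subgroup.mem_sup_left (Subgroup.mem_zpowers j))
          rwa [inv_mul_cancel_right] at h2))
        (by rw [Nat.card_zpowers, Nat.card_zpowers, hord])
      obtain ⟨w, hw, hwb⟩ : b ∈ MulAut.conj q • Subgroup.zpowers j :=
        hqA ▸ Subgroup.mem_zpowers b
      have hwj : w = j := by
        have hπw : π w = π j := by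
          rw [← hπb.1, ← hwb]
          change π w = π (q * w * q⁻¹)
          rw [map_mul, map_mul, map_inv, hπQ hq, one_mul, inv_one, mul_one]
        obtain ⟨i, rfl⟩ := mem_powers_iff_mem_zpowers.mpr hw
        have hm : j ^ i * j⁻¹ ∈ Q := (QuotientGroup.eq_one_iff _).mp (by
          change π (j ^ i * j⁻¹) = 1
          rw [map_mul, map_inv, hπw, mul_inv_cancel])
        obtain ⟨e, he⟩ := hQ ⟨_, hm⟩
        refine mul_inv_eq_one.mp (eq_one_of_odd_of_pow_two ?_ (congrArg Subtype.val he))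
        refine hjo.1.of_dvd_nat (orderOf_dvd_of_pow_eq_one ?_)
        rw [((Commute.refl j).pow_left i).inv_right.mul_pow, ← pow_mul, mul_comm i, pow_mul,
          inv_pow, pow_orderOf_eq_one, one_pow, inv_one, mul_one]
      have hwb' : q * j * q⁻¹ = b := by rw [← hwj]; exact hwb
      refine ⟨q, hq, q⁻¹ * a * q, ⟨Q.mul_mem (Q.mul_mem (Q.inv_mem hq) haQ) hq,
        Subgroup.mem_centralizer_iff.mpr ?_⟩, ?_⟩
      · intro u hu
        rw [Set.mem_singleton_iff.mp hu]
        calc j * (q⁻¹ * a * q) = q⁻¹ * ((q * j * q⁻¹) * a) * q := by group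
          _ = q⁻¹ * (a * (q * j * q⁻¹)) * q := by rw [hwb', hcomm]
          _ = _ := by group
      · change x = _
        rw [← hab, ← hwb']; group
    choose qx hqx zx hzx hx using hsurj
    refine Nat.card_le_card_of_injective (fun s => ((⟨(s.2 : G) * qx s.1, Q.mul_mem s.2.2.1 (hqx s.1)⟩,
      ⟨zx s.1, hzx s.1⟩) : Q × (Q ⊓ Subgroup.centralizer {j} : Subgroup G))) ?_
    rintro ⟨x, u, hu⟩ ⟨x', u', hu'⟩ h
    simp only [Prod.mk.injEq, Subtype.mk.injEq] at h
    have hrec : ∀ (x : X) (u : G), u ∈ Subgroup.centralizer {x.1} →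
        u * qx x * (zx x * j) * (u * qx x)⁻¹ = x.1 := by
      intro x u hu
      calc u * qx x * (zx x * j) * (u * qx x)⁻¹ = u * (qx x * (zx x * j) * (qx x)⁻¹) * u⁻¹ := by group
        _ = u * x.1 * u⁻¹ := by rw [← hx x]
        _ = x.1 := by rw [← Subgroup.mem_centralizer_iff.mp hu x.1 rfl, mul_inv_cancel_right]
    have hxx : x = x' := Subtype.ext (by
      rw [← hrec x u hu.2, ← hrec x' u' hu'.2, h.1, h.2])
    subst hxx
    exact Sigma.ext rfl (heq_of_eq (Subtype.ext (mul_right_cancel h.1)))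
  have hmain : Nat.card Q * Nat.card Q ≤
      (c ^ 2 * Nat.card (Q ⊓ Subgroup.centralizer {j} : Subgroup G)) * Nat.card Q := by
    rw [← Nat.card_prod, mul_assoc, mul_comm _ (Nat.card Q), ← Nat.card_prod]
    exact hstep1.trans (Nat.mul_le_mul_left _ (hstep2.trans hstep3))
  refine (Nat.le_of_mul_le_mul_right hmain Nat.card_pos).trans
    (Nat.mul_le_mul_left _ (Subgroup.card_le_of_le (inf_le_inf_left _ fun z hz => ?_)))
  refine Subgroup.mem_centralizer_iff.mpr ?_
  rintro u rfl
  exact (hcj z (Subgroup.mem_centralizer_iff.mp hz j rfl).symm).symm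

end Counting

section Subgroups

variable [Finite G] {α : G ≃* G}

theorem inv_map_characteristic {H : Subgroup G} (hH : Inv α H) (K : Subgroup H) [hK : K.Characteristic] :
    Inv α (K.map H.subtype) := by
  rintro _ ⟨x, hx, rfl⟩
  let φ : H ≃* H := MulEquiv.ofBijective
    (((α : G →* G).comp H.subtype).codRestrict H fun y => hH y y.2)
    (Finite.injective_iff_bijective.mp fun _ _ e =>
      Subtype.ext (α.injective (congrArg Subtype.val e)))
  exact ⟨φ x, Subgroup.characteristic_iff_le_comap.mp hK φ hx, rfl⟩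

theorem exists_maximal_freeOver (X : Subgroup G) [hXn : X.Normal] (hX : Inv α X) :
    ∃ R : Subgroup G, R.Normal ∧ Inv α R ∧ X ≤ R ∧ FreeOver α X R ∧
      ∀ V : Subgroup G, V.Normal → Inv α V → R ≤ V → FreeOver α X V → V = R := by
  obtain ⟨R, hR⟩ := (Set.toFinite {R : Subgroup G | R.Normal ∧ Inv α R ∧ X ≤ R ∧ FreeOver α X R}
    ).exists_maximal ⟨X, hXn, hX, le_rfl, fun _ hx _ => hx⟩
  exact ⟨R, hR.1.1, hR.1.2.1, hR.1.2.2.1, hR.1.2.2.2, fun V hVn hVi hle hV =>
    le_antisymm (hR.2 ⟨hVn, hVi, hR.1.2.2.1.trans hle, hV⟩ hle) hle⟩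

/-- Baer-Suzuki: a free invariant normal subgroup has a normal `2`-subgroup containing `[R, α]`. -/
theorem exists_twoGroup (hinv : ∀ c, α (α c) = c) {R : Subgroup G} [R.Normal] (hR : Inv α R)
    (hfree : FreeOver α ⊥ R) : ∃ P : Subgroup G, P.Normal ∧ Inv α P ∧ P ≤ R ∧ IsPGroup 2 P ∧
      ∀ r ∈ R, r * (α r)⁻¹ ∈ P := by
  refine ⟨(Cfsg.pCore 2 R).map R.subtype, Cores.normal_map_subtype R _,
    inv_map_characteristic hR _, Subgroup.map_subtype_le _, (Cores.pCore_isPGroup 2).map _,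
    fun r hr => ?_⟩
  have := Fact.mk Nat.prime_two
  let αR : MulAut R := MulEquiv.ofBijective
    (((α : G →* G).comp R.subtype).codRestrict R fun y => hR y y.2)
    (Finite.injective_iff_bijective.mp fun _ _ e =>
      Subtype.ext (α.injective (congrArg Subtype.val e)))
  refine ⟨⟨r, hr⟩ * (αR ⟨r, hr⟩)⁻¹, ?_, rfl⟩
  by_cases hone : αR = 1
  · rw [hone, MulAut.one_apply, mul_inv_cancel]; exact one_mem _
  have hsq : αR ^ 2 = 1 := MulEquiv.ext fun x => Subtype.ext (hinv x)
  have : Finite (R ⋊[(Subgroup.zpowers αR).subtype] Subgroup.zpowers αR) := Finite.of_equiv _ SemidirectProduct.equivProd.symm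
  let t : (R ⋊[(Subgroup.zpowers αR).subtype] Subgroup.zpowers αR) := SemidirectProduct.inr ⟨αR, Subgroup.mem_zpowers αR⟩
  have ht : orderOf t = 2 := by
    change orderOf (SemidirectProduct.inr (φ := (Subgroup.zpowers αR).subtype)
      ⟨αR, Subgroup.mem_zpowers αR⟩) = 2
    rw [orderOf_injective _ SemidirectProduct.inr_injective, Subgroup.orderOf_mk]
    exact orderOf_eq_prime hsq hone
  have hmem : ∃ N : Subgroup (R ⋊[(Subgroup.zpowers αR).subtype] Subgroup.zpowers αR), N.Normal ∧ IsPGroup 2 N ∧ t ∈ N := by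
    by_contra hcon
    push Not at hcon
    obtain ⟨h, hh1, hho, hth⟩ := Involutions.BaerSuzuki.exists_odd_inverted t ht
      fun N hN1 hN2 hN3 => hcon N hN1 hN2 hN3
    apply hh1
    have hright : SemidirectProduct.right h = 1 := by
      obtain ⟨i, hi⟩ := mem_powers_iff_mem_zpowers.mpr (SemidirectProduct.right h).2
      refine eq_one_of_odd_of_pow_two (k := 1)
        (hho.of_dvd_nat (orderOf_map_dvd SemidirectProduct.rightHom h)) (Subtype.ext ?_)
      change ((SemidirectProduct.right h : Subgroup.zpowers αR) : MulAut R) ^ 2 ^ 1 = 1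
      rw [← hi, pow_one, ← pow_mul, mul_comm, pow_mul, hsq, one_pow]
    have hh : h = SemidirectProduct.inl (SemidirectProduct.left h) :=
      SemidirectProduct.ext rfl (by rw [hright]; rfl)
    set x : R := SemidirectProduct.left h
    have hx : (x : G) = 1 := Subgroup.mem_bot.mp (hfree x x.2 ⟨?_, ?_⟩)
    · rw [hh, show x = 1 from Subtype.ext hx]; exact map_one _
    · rw [hh] at hho
      rwa [orderOf_injective _ SemidirectProduct.inl_injective, ← Subgroup.orderOf_coe] at hho
    · rw [hh] at hth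
      have h2 := SemidirectProduct.inl_aut (φ := (Subgroup.zpowers αR).subtype)
        ⟨αR, Subgroup.mem_zpowers αR⟩ x
      rw [map_inv SemidirectProduct.inr] at h2
      rw [← map_inv SemidirectProduct.inl] at hth
      exact congrArg Subtype.val (SemidirectProduct.inl_injective (h2.trans hth))
  obtain ⟨N, hN, hN2, htN⟩ := hmem
  have hle : N.comap (SemidirectProduct.inl : R →* (R ⋊[(Subgroup.zpowers αR).subtype] Subgroup.zpowers αR)) ≤ Cfsg.pCore 2 R := by
    have := hN.comap (SemidirectProduct.inl : R →* (R ⋊[(Subgroup.zpowers αR).subtype] Subgroup.zpowers αR))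
    exact Cores.le_pCore (hN2.comap_of_injective _ SemidirectProduct.inl_injective)
  refine hle (?_ : SemidirectProduct.inl (⟨r, hr⟩ * (αR ⟨r, hr⟩)⁻¹) ∈ N)
  have h2 := SemidirectProduct.inl_aut (φ := (Subgroup.zpowers αR).subtype)
    ⟨αR, Subgroup.mem_zpowers αR⟩ (⟨r, hr⟩ : R)
  rw [map_inv SemidirectProduct.inr] at h2
  rw [map_mul, map_inv]
  erw [h2]
  have h3 : SemidirectProduct.inl (⟨r, hr⟩ : R) *
      (t * SemidirectProduct.inl (⟨r, hr⟩ : R) * t⁻¹)⁻¹ =
      (SemidirectProduct.inl (⟨r, hr⟩ : R) * t * (SemidirectProduct.inl (⟨r, hr⟩ : R))⁻¹) * t⁻¹ := by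
    simp [mul_assoc]
  change SemidirectProduct.inl (⟨r, hr⟩ : R) *
    (t * SemidirectProduct.inl (⟨r, hr⟩ : R) * t⁻¹)⁻¹ ∈ N
  rw [h3]
  exact N.mul_mem (hN.conj_mem t htN _) (N.inv_mem htN)

/-- Quotient by an invariant normal subgroup. -/
theorem exists_quotient (N : Subgroup G) [N.Normal] (hN : Inv α N) :
    ∃ β : (G ⧸ N) ≃* (G ⧸ N), ∀ g, β (QuotientGroup.mk' N g) = QuotientGroup.mk' N (α g) :=
  ⟨QuotientGroup.congr N N α (Subgroup.eq_of_le_of_card_ge (Subgroup.map_le_iff_le_comap.mpr hN)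
    (Subgroup.card_map_of_injective (f := (α : G →* G)) α.injective).ge), fun _ => rfl⟩

theorem inv_centralizer {X : Subgroup G} (hinv : ∀ c, α (α c) = c) (hX : Inv α X) :
    Inv α (Subgroup.centralizer (X : Set G)) := fun z hz => by
  refine Subgroup.mem_centralizer_iff.mpr fun x hx => α.injective ?_
  rw [map_mul, map_mul, hinv, Subgroup.mem_centralizer_iff.mp hz _ (hX x hx)]

theorem index_normalCore_le (H : Subgroup G) : H.normalCore.index ≤ H.index.factorial := by
  rw [Subgroup.normalCore_eq_ker, Subgroup.index_ker, Subgroup.index_eq_card, ← Nat.card_perm]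
  exact Subgroup.card_le_card_group _

theorem index_inf_le' (H K : Subgroup G) : (H ⊓ K).index ≤ H.index * K.index := Subgroup.index_inf_le

end Subgroups

end Cfsg.Agent.Lib.Subnormality.InvolutoryAut
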