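import Cfsg.Agent.Lib.Subnormality.InvolutoryAut

/-!
# The order is bounded by the number of inverted odd elements

`card_bounded` : for `Hyp α` with at most `m` inverted elements of odd order, `|G| ≤ B m`.
-/

set_option autoImplicit false
set_option linter.unusedSectionVars false

open scoped Classical commutatorElement

namespace Cfsg.Agent.Lib.Subnormality.InvolutoryBound

open InvolutoryAut

universe u

variable {G : Type u} [Group G] [Finite G] {α : G ≃* G}

theorem card_fixed_le (hα : Hyp α) :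
    Nat.card (fixed α) ≤ Nat.card (Subgroup.center G) * (oddInverted α).ncard.factorial := by
  have hg : ∀ g : fixed α, (g : G)⁻¹ * α g ∈ Subgroup.center G := fun g => by
    rw [show α (g : G) = g from g.2, inv_mul_cancel]; exact one_mem _
  let φ : fixed α → Equiv.Perm (oddInverted α) := fun g =>
    Equiv.ofBijective (fun x => ⟨g * x * (g : G)⁻¹, conj_mem_oddInverted hα (hg g) x.2⟩)
      (Finite.injective_iff_bijective.mp fun x y h => Subtype.ext (by
        simpa using congrArg Subtype.val h))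
  rw [← Nat.card_coe_set_eq, ← Nat.card_perm]
  refine card_le_of_fibres φ _ fun t => ?_
  rcases isEmpty_or_nonempty {g : fixed α // φ g = t} with he | ⟨⟨g₀, hg₀⟩⟩
  · simp
  refine Nat.card_le_card_of_injective (fun g => (⟨(g₀ : G)⁻¹ * ((g.1 : fixed α) : G),
    center_mem_of_commute hα fun x hx => ?_⟩ : Subgroup.center G)) fun a b h => ?_
  · have := congrArg Subtype.val (DFunLike.congr_fun (g.2.trans hg₀.symm) ⟨x, hx⟩)
    change (g.1 : G) * x * (g.1 : G)⁻¹ = g₀ * x * (g₀ : G)⁻¹ at this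
    calc (g₀ : G)⁻¹ * (g.1 : G) * x * ((g₀ : G)⁻¹ * (g.1 : G))⁻¹
        = (g₀ : G)⁻¹ * ((g.1 : G) * x * (g.1 : G)⁻¹) * g₀ := by group
      _ = x := by rw [this]; group
  · exact Subtype.ext (Subtype.ext (mul_left_cancel (congrArg Subtype.val h)))

/-- Brauer-Fowler: some nonidentity element has a centraliser of small index. -/
theorem exists_small_class [Nontrivial G] (hα : Hyp α) {c : ℕ} (hc : Nat.card (fixed α) ≤ c) :
    ∃ x : G, x ≠ 1 ∧ (Subgroup.centralizer {x}).index ≤ 2 * c ^ 2 := by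
  have := Fintype.ofFinite G
  let K : Set G := Set.range fun a => a * (α a)⁻¹
  set i := Nat.card K with hi
  have hG : Nat.card G ≤ c * i := by
    rw [← Subgroup.card_top (G := G)]
    exact (card_le_fixed_mul ⊤ K fun a _ => ⟨a, rfl⟩).trans (Nat.mul_le_mul_right _ hc)
  have hi2 : 2 ≤ i := by
    by_contra hlt
    have hsub : Subsingleton K := Finite.card_le_one_iff_subsingleton.mp (by omega)
    have hfix : ∀ a, α a = a := fun a => by
      have := congrArg Subtype.val (hsub.elim ⟨_, a, rfl⟩ ⟨1 * (α 1)⁻¹, 1, rfl⟩)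
      simp only [map_one, inv_one, mul_one] at this
      exact (mul_inv_eq_one.mp this).symm
    have htriv : oddInverted α ⊆ {1} := fun x hx => eq_one_of_odd_of_pow_two (k := 1) hx.1 (by
      rw [pow_one, pow_two]
      exact mul_eq_one_iff_eq_inv.mpr ((hfix x).symm.trans hx.2))
    exact top_ne_bot (hα.gen ▸ le_bot_iff.mp ((Subgroup.closure_le _).mpr fun x hx =>
      Subgroup.mem_bot.mpr (htriv hx)))
  obtain ⟨x₀, hx₀1, hmax⟩ := Set.exists_max_image {x : G | x ≠ 1}
    (fun x => Nat.card (Subgroup.centralizer ({x} : Set G))) (Set.toFinite _) (exists_ne 1)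
  refine ⟨x₀, hx₀1, ?_⟩
  set M := Nat.card (Subgroup.centralizer ({x₀} : Set G))
  let φ : K × K → G := fun p => (p.1 : G) * (p.2 : G)⁻¹
  have hα' : ∀ y ∈ K, α y = y⁻¹ := by
    rintro _ ⟨a, rfl⟩; exact inverted_comm hα a
  have hfib : ∀ x : G, x ≠ 1 → Nat.card {p : K × K // φ p = x} ≤ M := by
    intro x hx
    refine le_trans ?_ (hmax x hx)
    rcases isEmpty_or_nonempty {p : K × K // φ p = x} with he | ⟨⟨⟨y₀, z₀⟩, hp⟩⟩
    · simp
    refine Nat.card_le_card_of_injective (fun p =>
      (⟨(p.1.1 : G) * (y₀ : G)⁻¹, Subgroup.mem_centralizer_iff.mpr ?_⟩ :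
        Subgroup.centralizer ({x} : Set G))) fun p q h => ?_
    · rintro w rfl
      have h1 : ∀ y z : K, (y : G) * (z : G)⁻¹ = w → α w = (y : G)⁻¹ * w⁻¹ * y := fun y z e => by
        rw [← e, map_mul, map_inv, hα' y y.2, hα' z z.2]; group
      have h2 := (h1 p.1.1 p.1.2 p.2).symm.trans (h1 y₀ z₀ hp)
      have h3 : Commute ((p.1.1 : G) * (y₀ : G)⁻¹) w⁻¹ :=
        calc (p.1.1 : G) * (y₀ : G)⁻¹ * w⁻¹
            = (p.1.1 : G) * ((y₀ : G)⁻¹ * w⁻¹ * y₀) * (y₀ : G)⁻¹ := by group
          _ = (p.1.1 : G) * ((p.1.1 : G)⁻¹ * w⁻¹ * p.1.1) * (y₀ : G)⁻¹ := by rw [h2]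
          _ = _ := by group
      exact (Commute.inv_right_iff.mp h3).eq.symm
    · have h1 : p.1.1 = q.1.1 := Subtype.ext (mul_right_cancel (congrArg Subtype.val h))
      have h2 : (p.1.1 : G) * (p.1.2 : G)⁻¹ = (q.1.1 : G) * (q.1.2 : G)⁻¹ := p.2.trans q.2.symm
      rw [h1] at h2
      exact Subtype.ext (Prod.ext h1 (Subtype.ext (inv_injective (mul_left_cancel h2))))
  have hone : Nat.card {p : K × K // φ p = 1} ≤ i := by
    refine Nat.card_le_card_of_injective (fun p => p.1.1) fun p q h => ?_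
    have hp : (p.1.1 : G) = p.1.2 := mul_inv_eq_one.mp p.2
    have hq : (q.1.1 : G) = q.1.2 := mul_inv_eq_one.mp q.2
    exact Subtype.ext (Prod.ext h (Subtype.ext (by rw [← hp, ← hq, show p.1.1 = q.1.1 from h])))
  have hsum : i * i ≤ i + Nat.card G * M := by
    rw [← Nat.card_prod, ← Nat.card_congr (Equiv.sigmaFiberEquiv φ), Nat.card_sigma,
      ← Finset.add_sum_erase _ _ (Finset.mem_univ (1 : G)), Nat.card_eq_fintype_card (α := G)]
    refine Nat.add_le_add hone ((Finset.sum_le_card_nsmul _ _ M fun x hx =>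
      hfib x (Finset.ne_of_mem_erase hx)).trans ?_)
    rw [smul_eq_mul]
    exact Nat.mul_le_mul_right _ (Finset.card_le_univ _)
  have h1 : i * i ≤ 2 * (Nat.card G * M) := by nlinarith
  have h2 : Nat.card G * Nat.card G ≤ Nat.card G * (2 * c ^ 2 * M) := by
    calc Nat.card G * Nat.card G ≤ (c * i) * (c * i) := Nat.mul_le_mul hG hG
      _ = c ^ 2 * (i * i) := by ring
      _ ≤ c ^ 2 * (2 * (Nat.card G * M)) := Nat.mul_le_mul_left _ h1
      _ = _ := by ring
  have h3 := Nat.le_of_mul_le_mul_left h2 Nat.card_pos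
  rw [← (Subgroup.centralizer ({x₀} : Set G)).index_mul_card] at h3
  exact Nat.le_of_mul_le_mul_right h3 Nat.card_pos

theorem inv_center (α : G ≃* G) : Inv α (Subgroup.center G) := fun _ hx =>
  Subgroup.characteristic_iff_le_comap.mp inferInstance α hx

/-- The bound when no nontrivial invariant normal subgroup avoids the inverted odd elements. -/
theorem card_bounded_of_reduced (m : ℕ) : ∃ B : ℕ, ∀ (G : Type u) [Group G] [Finite G] (α : G ≃* G),
    Hyp α → (∀ V : Subgroup G, V.Normal → Inv α V → FreeOver α ⊥ V → V = ⊥) →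
    (oddInverted α).ncard ≤ m → Nat.card G ≤ B := by
  induction m with
  | zero =>
    exact ⟨0, fun G _ _ α _ _ h => absurd h (not_le.mpr
      (Set.ncard_pos (Set.toFinite _) |>.mpr ⟨1, one_mem_oddInverted α⟩))⟩
  | succ m ih =>
  obtain ⟨B, hB⟩ := ih
  let c := (m + 1) * (m + 1).factorial
  let K₀ := (2 * c ^ 2).factorial * (2 * c ^ 2).factorial
  let Bx := K₀ * (c * (m + 1)) + 1
  refine ⟨B * (Bx ^ Bx * (c * Bx)) + 1, ?_⟩
  intro G _ _ α hα hred hm
  rcases subsingleton_or_nontrivial G with hG | hG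
  · rw [Nat.card_unique]; omega
  -- elements of the centre
  have htwo : ∀ A : Subgroup G, A.Normal → Inv α A → (∀ x ∈ A, ∀ y ∈ A, x * y = y * x) →
      ∀ x ∈ A, Odd (orderOf x) := by
    intro A hA hAi hAc x hx
    let T : Subgroup G :=
      { carrier := {y | y ∈ A ∧ ∃ k : ℕ, y ^ 2 ^ k = 1}
        one_mem' := ⟨one_mem _, 0, by simp⟩
        mul_mem' := fun {a b} ha hb => ⟨mul_mem ha.1 hb.1, by
          obtain ⟨k, hk⟩ := ha.2
          obtain ⟨l, hl⟩ := hb.2
          refine ⟨k + l, ?_⟩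
          rw [Commute.mul_pow (hAc a ha.1 b hb.1), pow_add, pow_mul, hk, one_pow, mul_comm,
            pow_mul, hl, one_pow, mul_one]⟩
        inv_mem' := fun {a} ha => ⟨inv_mem ha.1, by
          obtain ⟨k, hk⟩ := ha.2
          exact ⟨k, by rw [inv_pow, hk, inv_one]⟩⟩ }
    have hT : T = ⊥ := hred T ⟨fun y hy g => ⟨hA.conj_mem y hy.1 g, by
        obtain ⟨k, hk⟩ := hy.2
        exact ⟨k, by rw [conj_pow, hk, mul_one, mul_inv_cancel]⟩⟩⟩
      (fun y hy => ⟨hAi y hy.1, by
        obtain ⟨k, hk⟩ := hy.2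
        exact ⟨k, by rw [← map_pow, hk, map_one]⟩⟩)
      (fun y hy hyo => by
        obtain ⟨k, hk⟩ := hy.2
        exact Subgroup.mem_bot.mpr (eq_one_of_odd_of_pow_two hyo.1 hk))
    obtain ⟨a, b, ha, -, hab, -, ⟨k, hk⟩, hb⟩ := exists_fact_pPart x
    have haT : a ∈ T := ⟨Subgroup.zpowers_le.mpr hx ha, k, hk⟩
    rw [hT, Subgroup.mem_bot] at haT
    rwa [← hab, haT, one_mul]
  have hZfix : Subgroup.center G ⊓ fixed α = ⊥ := by
    refine hred _ ⟨fun x hx g => ?_⟩ (fun x hx => ?_) fun x hx hxo => ?_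
    · rwa [Subgroup.mem_center_iff.mp hx.1 g, mul_inv_cancel_right]
    · rwa [show α x = x from hx.2]
    · exact Subgroup.mem_bot.mpr (eq_one_of_odd_of_pow_two (k := 1) hxo.1 (by
        rw [pow_one, pow_two]
        exact mul_eq_one_iff_eq_inv.mpr ((show α x = x from hx.2).symm.trans hxo.2)))
  have hZcard : Nat.card (Subgroup.center G) ≤ m + 1 := by
    refine le_trans ?_ hm
    rw [← SetLike.coe_sort_coe, Nat.card_coe_set_eq]
    refine Set.ncard_le_ncard (fun z hz => ⟨?_, ?_⟩) (Set.toFinite _)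
    · exact htwo _ inferInstance (inv_center α)
        (fun x _ y hy => Subgroup.mem_center_iff.mp hy x) z hz
    · have hm' : z * α z ∈ Subgroup.center G ⊓ fixed α := by
        refine ⟨mul_mem hz (inv_center α z hz), ?_⟩
        change α (z * α z) = z * α z
        rw [map_mul, hα.invol, Subgroup.mem_center_iff.mp hz]
      rw [hZfix, Subgroup.mem_bot] at hm'
      exact eq_inv_of_mul_eq_one_right hm'
  have hc : Nat.card (fixed α) ≤ c :=
    (card_fixed_le hα).trans (Nat.mul_le_mul hZcard (Nat.factorial_le hm))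
  obtain ⟨x, hx1, hx⟩ := exists_small_class hα hc
  set C := (Subgroup.centralizer ({x} : Set G)).normalCore with hCdef
  set N := C ⊓ C.comap (α : G →* G) with hNdef
  have : (C.comap (α : G →* G)).Normal := inferInstance
  have hNn : N.Normal := inferInstance
  have hNi : Inv α N := fun y hy => ⟨hy.2, by
    change α (α y) ∈ C
    rw [hα.invol]; exact hy.1⟩
  have hNidx : N.index ≤ K₀ := by
    have h1 : C.index ≤ (2 * c ^ 2).factorial :=
      (index_normalCore_le _).trans (Nat.factorial_le hx)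
    refine (index_inf_le' C _).trans (Nat.mul_le_mul h1 ?_)
    rw [Subgroup.index_comap_of_surjective C (f := (α : G →* G)) α.surjective]
    exact h1
  set X := Subgroup.centralizer (N : Set G) with hXdef
  have hXn : X.Normal := inferInstance
  have hXi : Inv α X := inv_centralizer hα.invol hNi
  have hxX : x ∈ X := Subgroup.mem_centralizer_iff.mpr fun y hy =>
    (Subgroup.mem_centralizer_iff.mp (Subgroup.normalCore_le _ hy.1) x rfl).symm
  have hXcard : Nat.card X ≤ Bx := by
    have hAc : ∀ a ∈ X ⊓ N, ∀ b ∈ X ⊓ N, a * b = b * a := fun a ha b hb =>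
      Subgroup.mem_centralizer_iff.mp hb.1 a ha.2
    have hAi : Inv α (X ⊓ N) := fun y hy => ⟨hXi y hy.1, hNi y hy.2⟩
    have hA : Nat.card (X ⊓ N : Subgroup G) ≤ c * (m + 1) := by
      refine (card_le_fixed_mul _ (oddInverted α) fun a ha => ?_).trans
        (Nat.mul_le_mul hc ((Nat.card_coe_set_eq _).trans_le hm))
      exact ⟨htwo _ inferInstance hAi hAc _ (mul_mem ha (inv_mem (hAi a ha))), inverted_comm hα a⟩
    have h1 := Subgroup.relIndex_mul_relIndex (⊥ : Subgroup G) (X ⊓ N) X bot_le inf_le_left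
    rw [Subgroup.relIndex_bot_left, Subgroup.relIndex_bot_left, Subgroup.inf_relIndex_left] at h1
    have h2 : N.relIndex X ≤ K₀ := le_trans (Nat.le_of_dvd
      (Nat.pos_of_ne_zero N.index_ne_zero_of_finite) (Subgroup.relIndex_dvd_index_of_normal N X)) hNidx
    rw [← h1, mul_comm]
    exact le_add_right (Nat.mul_le_mul h2 hA)
  obtain ⟨j, hjX, hj, hj1⟩ : ∃ j ∈ X, j ∈ oddInverted α ∧ j ≠ 1 := by
    by_contra hcon
    push Not at hcon
    have h := hred X hXn hXi fun y hy hyo => Subgroup.mem_bot.mpr (hcon y hy hyo)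
    rw [h, Subgroup.mem_bot] at hxX
    exact hx1 hxX
  obtain ⟨R, hRn, hRi, hXR, hRfree, hRmax⟩ := exists_maximal_freeOver (α := α) X hXi
  obtain ⟨β, hβ⟩ := exists_quotient R hRi
  have hsur := QuotientGroup.mk'_surjective R
  have hker : ∀ {g : G}, QuotientGroup.mk' R g = 1 ↔ g ∈ R := fun {g} => QuotientGroup.eq_one_iff g
  have hQ : Nat.card (G ⧸ R) ≤ B := by
    refine hB _ β (hyp_map hsur hβ hα) (fun V hVn hVi hV => ?_) ?_
    · have hle : R ≤ V.comap (QuotientGroup.mk' R) := fun g hg =>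
        show QuotientGroup.mk' R g ∈ V by rw [hker.mpr hg]; exact one_mem _
      have h := hRmax _ (hVn.comap _) (fun g hg => show QuotientGroup.mk' R (α g) ∈ V by
        rw [← hβ]; exact hVi _ hg) hle fun g hg hgo =>
        hRfree g (hker.mp (Subgroup.mem_bot.mp (hV _ hg (map_mem_oddInverted hsur hβ hα hgo)))) hgo
      rw [← Subgroup.map_comap_eq_self_of_surjective hsur V, h, QuotientGroup.map_mk'_self]
    · have := ncard_lt hsur hβ hα hj hj1 (hker.mpr (hXR hjX))
      omega
  -- the part centralising `X`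
  set Rc := R ⊓ Subgroup.centralizer (X : Set G) with hRcdef
  have hRcn : Rc.Normal := inferInstance
  have hRci : Inv α Rc := fun y hy => ⟨hRi y hy.1, inv_centralizer hα.invol hXi y hy.2⟩
  have hRcard : Nat.card R ≤ Bx ^ Bx * Nat.card Rc := by
    let φ : R → (X → X) := fun r y => ⟨r * y * (r : G)⁻¹, hXn.conj_mem y y.2 r⟩
    refine (card_le_of_fibres φ (Nat.card Rc) fun t => ?_).trans ?_
    · rcases isEmpty_or_nonempty {r : R // φ r = t} with he | ⟨⟨r₀, hr₀⟩⟩
      · simp
      refine Nat.card_le_card_of_injective (fun r => (⟨(r₀ : G)⁻¹ * (r.1 : G),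
        R.mul_mem (R.inv_mem r₀.2) r.1.2, Subgroup.mem_centralizer_iff.mpr fun y hy => ?_⟩ : Rc))
        fun a b h => Subtype.ext (Subtype.ext (mul_left_cancel (congrArg Subtype.val h)))
      have h := congrArg Subtype.val (congrFun (r.2.trans hr₀.symm) ⟨y, hy⟩)
      change (r.1 : G) * y * (r.1 : G)⁻¹ = r₀ * y * (r₀ : G)⁻¹ at h
      calc y * ((r₀ : G)⁻¹ * (r.1 : G))
          = (r₀ : G)⁻¹ * ((r₀ : G) * y * (r₀ : G)⁻¹) * (r.1 : G) := by group
        _ = _ := by rw [← h]; group
    · rw [mul_comm]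
      refine Nat.mul_le_mul_right _ ?_
      rw [Nat.card_fun]
      exact (Nat.pow_le_pow_left hXcard _).trans (Nat.pow_le_pow_right (by omega) hXcard)
  set C₀ := Rc ⊓ X with hC₀def
  have hC₀i : Inv α C₀ := fun y hy => ⟨hRci y hy.1, hXi y hy.2⟩
  obtain ⟨γ, hγ⟩ := exists_quotient C₀ hC₀i
  have hs₀ := QuotientGroup.mk'_surjective C₀
  have hker₀ : ∀ {g : G}, QuotientGroup.mk' C₀ g = 1 ↔ g ∈ C₀ := fun {g} => QuotientGroup.eq_one_iff g
  set π₀ := QuotientGroup.mk' C₀
  have : (Rc.map π₀).Normal := hRcn.map _ hs₀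
  have hback : ∀ g, π₀ g ∈ Rc.map π₀ → g ∈ Rc := by
    rintro g ⟨r, hr, he⟩
    have : r⁻¹ * g ∈ C₀ := hker₀.mp (by rw [map_mul, map_inv, he, inv_mul_cancel])
    simpa using Rc.mul_mem hr this.1
  obtain ⟨P, hPn, hPi, hPR, hP2, hPf⟩ := exists_twoGroup (α := γ) (hyp_map hs₀ hγ hα).invol
    (R := Rc.map π₀) (by rintro _ ⟨r, hr, rfl⟩; rw [hγ]; exact ⟨α r, hRci r hr, rfl⟩)
    (fun q hq hqo => by
      obtain ⟨g, hg, rfl⟩ := exists_lift hs₀ hγ hα hqo
      exact Subgroup.mem_bot.mpr (hker₀.mpr ⟨hback g hq, hRfree g (hback g hq).1 hg⟩))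
  set P₀ := P.comap π₀ with hP₀def
  have hP₀C : P₀ ≤ C₀ := by
    have hP₀R : P₀ ≤ Rc := fun g hg => hback g (hPR hg)
    have hC₀P : C₀ ≤ P₀ := fun g hg => show π₀ g ∈ P by rw [hker₀.mpr hg]; exact one_mem _
    have hpow : ∀ g ∈ P₀, ∃ k : ℕ, g ^ 2 ^ k ∈ C₀ := fun g hg => by
      obtain ⟨k, hk⟩ := hP2 ⟨π₀ g, hg⟩
      exact ⟨k, hker₀.mp (by rw [map_pow]; exact congrArg Subtype.val hk)⟩
    have hfac := Fact.mk Nat.prime_two
    have hnil : Group.IsNilpotent P₀ := by
      have hP2' : IsPGroup 2 (P₀ ⧸ C₀.subgroupOf P₀) := by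
        intro q
        induction q using QuotientGroup.induction_on with
        | H g =>
          obtain ⟨k, hk⟩ := hpow g g.2
          exact ⟨k, (QuotientGroup.eq_one_iff _).mpr hk⟩
      have := hP2'.isNilpotent
      refine Subgroup.isNilpotent_of_ker_le_center (QuotientGroup.mk' (C₀.subgroupOf P₀)) ?_
      rw [QuotientGroup.ker_mk']
      intro y hy
      refine Subgroup.mem_center_iff.mpr fun z => Subtype.ext ?_
      exact (Subgroup.mem_centralizer_iff.mp (hP₀R z.2).2 _ (hy : (y : G) ∈ C₀).2).symm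
    intro g hg
    obtain ⟨k, hk⟩ := hpow g hg
    have hodd : Odd (orderOf g) := by
      obtain ⟨S⟩ : Nonempty (Sylow 2 P₀) := inferInstance
      have hSn : (S : Subgroup P₀).Normal :=
        ((Group.isNilpotent_of_finite_tfae (G := P₀)).out 0 3 rfl rfl).mp hnil 2 inferInstance S
      have := S.characteristic_of_normal hSn
      have hS := hred ((S : Subgroup P₀).map P₀.subtype) (Cores.normal_map_subtype P₀ _)
        (inv_map_characteristic (fun y hy => show π₀ (α y) ∈ P by rw [← hγ]; exact hPi _ hy) _)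
        (fun y hy hyo => by
          obtain ⟨s, hs, rfl⟩ := hy
          obtain ⟨l, hl⟩ := S.2 ⟨s, hs⟩
          exact Subgroup.mem_bot.mpr (eq_one_of_odd_of_pow_two hyo.1
            (congrArg (fun w : (S : Subgroup P₀) => ((w : P₀) : G)) hl)))
      rw [Subgroup.map_eq_bot_iff_of_injective _ P₀.subtype_injective] at hS
      have hnd : ¬ 2 ∣ Nat.card P₀ := fun hd => by
        have := S.dvd_card_of_dvd_card hd
        rw [hS, Subgroup.card_bot] at this
        exact Nat.prime_two.not_dvd_one this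
      refine Nat.not_even_iff_odd.mp fun he => hnd ((even_iff_two_dvd.mp he).trans ?_)
      rw [← Subgroup.orderOf_mk g hg]
      exact orderOf_dvd_natCard _
    obtain ⟨l, hl⟩ := exists_pow_eq_self_of_coprime (x := g) (n := 2 ^ k)
      (Nat.Coprime.pow_left _ (Nat.coprime_two_left.mpr hodd))
    exact hl ▸ pow_mem hk l
  have hRccard : Nat.card Rc ≤ c * Bx := by
    refine (card_le_fixed_mul Rc (C₀ : Set G) fun r hr => hP₀C ?_).trans (Nat.mul_le_mul hc
      ((Subgroup.card_le_of_le inf_le_right).trans hXcard))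
    change π₀ (r * (α r)⁻¹) ∈ P
    rw [map_mul, map_inv, ← hγ]
    exact hPf _ ⟨r, hr, rfl⟩
  rw [Subgroup.card_eq_card_quotient_mul_card_subgroup R]
  exact le_add_right (Nat.mul_le_mul hQ (hRcard.trans (Nat.mul_le_mul_left _ hRccard)))

/-- The order of the group is bounded in terms of the inverted odd elements. -/
theorem card_bounded (m : ℕ) : ∃ B : ℕ, ∀ (G : Type u) [Group G] [Finite G] (α : G ≃* G),
    Hyp α → (oddInverted α).ncard ≤ m → Nat.card G ≤ B := by
  obtain ⟨Φ, hΦ⟩ := card_bounded_of_reduced.{u} m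
  let c := m.factorial
  let B₂ := Φ * (c * (c ^ 2) ^ m)
  refine ⟨(B₂ ^ (B₂ * (B₂ * B₂) + 1) + 1) * (m ^ m + 1), ?_⟩
  intro G _ _ α hα hm
  obtain ⟨β, hβ⟩ := exists_quotient (Subgroup.center G) (inv_center α)
  set π := QuotientGroup.mk' (Subgroup.center G) with hπdef
  have hsur : Function.Surjective π := QuotientGroup.mk'_surjective _
  have hmQ : (oddInverted β).ncard ≤ m := (ncard_le hsur hβ hα).trans hm
  have hcQ : Nat.card (fixed β) ≤ c :=
    (card_fixed_mod_center hsur hβ hα (QuotientGroup.ker_mk' _)).trans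
      (Nat.factorial_le ((Nat.card_coe_set_eq _).trans_le hm))
  have hβhyp := hyp_map hsur hβ hα
  obtain ⟨R, hRn, hRi, -, hRfree, hRmax⟩ := exists_maximal_freeOver (α := β)
    (⊥ : Subgroup (G ⧸ Subgroup.center G)) (fun y hy => by
      rw [Subgroup.mem_bot] at hy ⊢; rw [hy, map_one])
  obtain ⟨γ, hγ⟩ := exists_quotient R hRi
  have hs₁ := QuotientGroup.mk'_surjective R
  have hker₁ : ∀ {g}, QuotientGroup.mk' R g = 1 ↔ g ∈ R := fun {g} => QuotientGroup.eq_one_iff g
  have hQ1 : Nat.card ((G ⧸ Subgroup.center G) ⧸ R) ≤ Φ := by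
    refine hΦ _ γ (hyp_map hs₁ hγ hβhyp) (fun V hVn hVi hV => ?_) ((ncard_le hs₁ hγ hβhyp).trans hmQ)
    have hle : R ≤ V.comap (QuotientGroup.mk' R) := fun g hg =>
      show QuotientGroup.mk' R g ∈ V by rw [hker₁.mpr hg]; exact one_mem _
    have h := hRmax _ (hVn.comap _) (fun g hg => show QuotientGroup.mk' R (β g) ∈ V by
      rw [← hγ]; exact hVi _ hg) hle fun g hg hgo =>
      hRfree g (hker₁.mp (Subgroup.mem_bot.mp (hV _ hg (map_mem_oddInverted hs₁ hγ hβhyp hgo)))) hgo
    rw [← Subgroup.map_comap_eq_self_of_surjective hs₁ V, h, QuotientGroup.map_mk'_self]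
  obtain ⟨P, hPn, hPi, hPR, hP2, hPf⟩ := exists_twoGroup hβhyp.invol hRi hRfree
  have hPcard : Nat.card P ≤ (c ^ 2) ^ m := by
    have key : ∀ t : Finset (G ⧸ Subgroup.center G), (∀ x ∈ t, x ∈ oddInverted β) →
        (Subgroup.centralizer (t : Set (G ⧸ Subgroup.center G))).relIndex P ≤ (c ^ 2) ^ t.card := by
      intro t
      induction t using Finset.induction_on with
      | empty =>
        intro _
        rw [Finset.card_empty, pow_zero, Finset.coe_empty, show Subgroup.centralizer
          (∅ : Set (G ⧸ Subgroup.center G)) = ⊤ from eq_top_iff.mpr fun y _ =>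
            Subgroup.mem_centralizer_iff.mpr fun z hz => absurd hz (Set.notMem_empty z),
          Subgroup.relIndex_top_left]
      | insert a t hat iht =>
        intro hsub
        rw [Finset.card_insert_of_notMem hat, pow_succ]
        have hsplit : Subgroup.centralizer ((insert a t : Finset _) : Set (G ⧸ Subgroup.center G)) =
            Subgroup.centralizer (t : Set (G ⧸ Subgroup.center G)) ⊓ Subgroup.centralizer {a} := by
          ext z
          simp only [Finset.coe_insert, Subgroup.mem_inf, Subgroup.mem_centralizer_iff,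
            Set.mem_insert_iff, Set.mem_singleton_iff, forall_eq_or_imp, forall_eq]
          exact and_comm
        rw [hsplit]
        refine Subgroup.relIndex_inf_le.trans (Nat.mul_le_mul
          (iht fun x hx => hsub x (Finset.mem_insert_of_mem hx)) ?_)
        have h1 := card_pGroup_le (α := β) hβhyp.invol hP2 hPi (hsub a (Finset.mem_insert_self _ _))
        have h2 := Subgroup.relIndex_mul_relIndex (⊥ : Subgroup (G ⧸ Subgroup.center G))
          (P ⊓ Subgroup.centralizer {a}) P bot_le inf_le_left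
        rw [Subgroup.relIndex_bot_left, Subgroup.relIndex_bot_left, Subgroup.inf_relIndex_left] at h2
        rw [← h2, mul_comm] at h1
        exact (Nat.le_of_mul_le_mul_right h1 Nat.card_pos).trans (Nat.pow_le_pow_left hcQ 2)
    have := Fintype.ofFinite (G ⧸ Subgroup.center G)
    have h := key (oddInverted β).toFinset fun x hx => by simpa using hx
    have hcP : Subgroup.centralizer ((oddInverted β).toFinset : Set (G ⧸ Subgroup.center G)) ⊓ P = ⊥ := by
      rw [Subgroup.eq_bot_iff_forall]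
      rintro q ⟨hqC, hqP⟩
      obtain ⟨g, rfl⟩ := hsur q
      refine (QuotientGroup.eq_one_iff g).mpr (center_mem_of_commute hα fun j hj => ?_)
      have hz : g * j * g⁻¹ * j⁻¹ ∈ Subgroup.center G := by
        refine (QuotientGroup.eq_one_iff _).mp ?_
        have h' := Subgroup.mem_centralizer_iff.mp hqC (π j)
          (by simpa using map_mem_oddInverted hsur hβ hα hj)
        change π (g * j * g⁻¹ * j⁻¹) = 1
        rw [map_mul, map_mul, map_mul, ← h', map_inv, map_inv, mul_inv_cancel_right, mul_inv_cancel]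
      set z := g * j * g⁻¹ * j⁻¹ with hzdef
      obtain ⟨k, hk⟩ := hP2 ⟨π g, hqP⟩
      have hgk : g ^ 2 ^ k ∈ Subgroup.center G := (QuotientGroup.eq_one_iff _).mp (by
        change π (g ^ 2 ^ k) = 1
        rw [map_pow]; exact congrArg Subtype.val hk)
      have hiter : ∀ n : ℕ, g ^ n * j * (g ^ n)⁻¹ = z ^ n * j := by
        intro n
        induction n with
        | zero => simp
        | succ n ihn =>
          have hzc := Subgroup.mem_center_iff.mp (pow_mem hz n) g
          calc g ^ (n + 1) * j * (g ^ (n + 1))⁻¹ = g * (g ^ n * j * (g ^ n)⁻¹) * g⁻¹ := by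
                rw [pow_succ']; group
            _ = g * z ^ n * j * g⁻¹ := by rw [ihn]; group
            _ = z ^ n * (z * j) := by rw [hzc, hzdef]; group
            _ = _ := by rw [← mul_assoc, ← pow_succ]
      have hz2 : z ^ 2 ^ k = 1 := by
        have := hiter (2 ^ k)
        rw [← Subgroup.mem_center_iff.mp hgk j, mul_inv_cancel_right] at this
        exact mul_eq_right.mp this.symm
      have hzo : z ^ orderOf j = 1 := by
        have h1 : (g * j * g⁻¹) ^ orderOf j = 1 := by
          rw [conj_pow, pow_orderOf_eq_one, mul_one, mul_inv_cancel]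
        have h2 : g * j * g⁻¹ = z * j := by rw [hzdef]; group
        rw [h2, (Commute.symm (Subgroup.mem_center_iff.mp hz j : Commute j z)).mul_pow,
          pow_orderOf_eq_one, mul_one] at h1
        exact h1
      have hz1 : z = 1 := eq_one_of_odd_of_pow_two (hj.1.of_dvd_nat (orderOf_dvd_of_pow_eq_one hzo)) hz2
      exact mul_inv_eq_one.mp hz1
    have h2 := Subgroup.inf_relIndex_right
      (Subgroup.centralizer ((oddInverted β).toFinset : Set (G ⧸ Subgroup.center G))) P
    rw [hcP, Subgroup.relIndex_bot_left] at h2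
    rw [h2]
    refine h.trans (Nat.pow_le_pow_right (Nat.pow_pos (Nat.factorial_pos m)) ?_)
    rwa [← Set.ncard_eq_toFinset_card']
  have hRcard : Nat.card R ≤ c * (c ^ 2) ^ m :=
    (card_le_fixed_mul R (P : Set (G ⧸ Subgroup.center G)) hPf).trans (Nat.mul_le_mul hcQ hPcard)
  have hidx : (Subgroup.center G).index ≤ B₂ := by
    rw [Subgroup.index_eq_card, Subgroup.card_eq_card_quotient_mul_card_subgroup R]
    exact Nat.mul_le_mul hQ1 hRcard
  -- Schur
  have hG' : Nat.card (commutator G) ≤ B₂ ^ (B₂ * (B₂ * B₂) + 1) + 1 := by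
    have hcs : Nat.card (commutatorSet G) ≤ B₂ * B₂ := by
      refine le_trans ?_ (Nat.mul_le_mul hidx hidx)
      rw [Subgroup.index_eq_card, ← Nat.card_prod]
      refine Nat.card_le_card_of_surjective (fun p : (G ⧸ Subgroup.center G) × (G ⧸ Subgroup.center G) =>
        (⟨⁅p.1.out, p.2.out⁆, p.1.out, p.2.out, rfl⟩ : commutatorSet G)) ?_
      rintro ⟨_, a, b, rfl⟩
      refine ⟨((a : G ⧸ Subgroup.center G), (b : G ⧸ Subgroup.center G)), Subtype.ext ?_⟩
      obtain ⟨u, hu⟩ := QuotientGroup.mk_out_eq_mul (Subgroup.center G) a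
      obtain ⟨v, hv⟩ := QuotientGroup.mk_out_eq_mul (Subgroup.center G) b
      have hu' : ∀ w, (u : G) * w = w * u := fun w => (Subgroup.mem_center_iff.mp u.2 w).symm
      have hv' : ∀ w, (v : G) * w = w * v := fun w => (Subgroup.mem_center_iff.mp v.2 w).symm
      change ⁅(QuotientGroup.mk a : G ⧸ Subgroup.center G).out, (QuotientGroup.mk b : G ⧸ Subgroup.center G).out⁆ = ⁅a, b⁆
      rw [hu, hv, commutatorElement_def, commutatorElement_def]
      calc a * u * (b * v) * (a * u)⁻¹ * (b * v)⁻¹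
          = a * ((u : G) * (b * v)) * ((u : G)⁻¹ * a⁻¹) * ((v : G)⁻¹ * b⁻¹) := by group
        _ = a * b * ((v : G) * a⁻¹) * ((v : G)⁻¹ * b⁻¹) := by rw [hu']; group
        _ = _ := by rw [hv']; group
    have h1 := Nat.le_of_dvd (Nat.pow_pos (Nat.pos_of_ne_zero
      (Subgroup.center G).index_ne_zero_of_finite)) (Subgroup.card_commutator_dvd_index_center_pow G)
    refine le_add_right (h1.trans ?_)
    exact (Nat.pow_le_pow_left hidx _).trans (Nat.pow_le_pow_right
      (lt_of_lt_of_le (Nat.pos_of_ne_zero (Subgroup.center G).index_ne_zero_of_finite) hidx)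
      (Nat.add_le_add_right (Nat.mul_le_mul hidx hcs) 1))
  have hab : Nat.card (Abelianization G) ≤ m ^ m + 1 := by
    have := Fintype.ofFinite (oddInverted α)
    let of := (Abelianization.of : G →* Abelianization G)
    let ψ : (∀ j : oddInverted α, Subgroup.zpowers (of j)) →* Abelianization G :=
      { toFun := fun f => ∏ j, (f j : Abelianization G)
        map_one' := by simp
        map_mul' := fun f g => by simp [Finset.prod_mul_distrib] }
    have hψ : Function.Surjective ψ := by
      rw [← MonoidHom.range_eq_top, eq_top_iff, ← Subgroup.map_top_of_surjective of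
        (QuotientGroup.mk'_surjective _), ← hα.gen, MonoidHom.map_closure]
      refine (Subgroup.closure_le _).mpr ?_
      rintro _ ⟨j, hj, rfl⟩
      refine ⟨Pi.mulSingle ⟨j, hj⟩ ⟨of j, Subgroup.mem_zpowers _⟩, ?_⟩
      change ∏ i : oddInverted α, ((Pi.mulSingle (M := fun i : oddInverted α => Subgroup.zpowers (of i)) ⟨j, hj⟩
        ⟨of j, Subgroup.mem_zpowers _⟩ i : Subgroup.zpowers (of i)) : Abelianization G) = of j
      rw [Finset.prod_eq_single (⟨j, hj⟩ : oddInverted α) (fun i _ hne => by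
        rw [Pi.mulSingle_eq_of_ne hne]; rfl) (fun h => absurd (Finset.mem_univ _) h)]
      rw [Pi.mulSingle_eq_same]
    refine (Nat.card_le_card_of_surjective ψ hψ).trans (le_add_right ?_)
    rw [Nat.card_pi]
    refine (Finset.prod_le_pow_card _ _ m fun j _ => ?_).trans ?_
    · rw [Nat.card_zpowers]
      exact (Nat.le_of_dvd (orderOf_pos _) (orderOf_map_dvd of (j : G))).trans
        ((orderOf_le_ncard j.2).trans hm)
    · rcases Nat.eq_zero_or_pos m with rfl | hm0
      · exact absurd hm (not_le.mpr ((Set.ncard_pos (Set.toFinite _)).mpr ⟨1, one_mem_oddInverted α⟩))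
      · refine Nat.pow_le_pow_right hm0 ?_
        rw [Finset.card_univ, ← Nat.card_eq_fintype_card, Nat.card_coe_set_eq]
        exact hm
  rw [Subgroup.card_eq_card_quotient_mul_card_subgroup (commutator G), mul_comm]
  exact Nat.mul_le_mul hG' hab

end Cfsg.Agent.Lib.Subnormality.InvolutoryBound
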